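import Mathlib

universe u
set_option autoImplicit false
open AlgebraicGeometry CategoryTheory CategoryTheory.Limits

namespace RingPO

variable {A A' B C : Type u} [CommRing A] [CommRing A'] [CommRing B] [CommRing C]

/-- `C` is the fibre product of `q : B → A` and a surjection `p : A' → A`. -/
structure IsFibreProd (p : A' →+* A) (q : B →+* A) (α : C →+* A') (β : C →+* B) : Prop where
  surj : Function.Surjective p
  comm : ∀ z, p (α z) = q (β z)
  ext : ∀ z z', α z = α z' → β z = β z' → z = z'
  exists_of_eq : ∀ (b : B) (a : A'), p a = q b → ∃ z, α z = a ∧ β z = b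

variable {p : A' →+* A} {q : B →+* A} {α : C →+* A'} {β : C →+* B}

theorem IsFibreProd.beta_surjective (h : IsFibreProd p q α β) : Function.Surjective β := fun b => by
  obtain ⟨a, ha⟩ := h.surj (q b)
  obtain ⟨z, -, hz⟩ := h.exists_of_eq b a ha
  exact ⟨z, hz⟩

/-- The localization of `q` at `c`. -/
noncomputable def qAway (h : IsFibreProd p q α β) (c : C) :
    Localization.Away (β c) →+* Localization.Away (p (α c)) :=
  IsLocalization.Away.lift (β c) (g := (algebraMap A (Localization.Away (p (α c)))).comp q) (by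
    rw [RingHom.comp_apply, ← h.comm]; exact IsLocalization.Away.algebraMap_isUnit _)

theorem qAway_algebraMap (h : IsFibreProd p q α β) (c : C) (b : B) :
    qAway h c (algebraMap B _ b) = algebraMap A _ (q b) := IsLocalization.Away.lift_eq _ _ b

theorem awayMap_algebraMap {R P : Type u} [CommRing R] [CommRing P] (f : R →+* P) (r x : R) :
    Localization.awayMap f r (algebraMap R _ x) = algebraMap P _ (f x) :=
  IsLocalization.map_eq _ x

theorem away_eq_iff {R : Type u} [CommRing R] (r x y : R) :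
    algebraMap R (Localization.Away r) x = algebraMap R (Localization.Away r) y ↔ ∃ n : ℕ, r ^ n * x = r ^ n * y := by
  rw [IsLocalization.eq_iff_exists (Submonoid.powers r)]
  exact ⟨fun ⟨⟨_, n, rfl⟩, h⟩ => ⟨n, h⟩, fun ⟨n, h⟩ => ⟨⟨_, n, rfl⟩, h⟩⟩

theorem IsFibreProd.away (h : IsFibreProd p q α β) (c : C) :
    IsFibreProd (Localization.awayMap p (α c)) (qAway h c) (Localization.awayMap α c)
      (Localization.awayMap β c) where
  surj := Localization.awayMap_surjective_iff.mpr fun a => by
    obtain ⟨b, hb⟩ := h.surj a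
    exact ⟨b, 0, by rw [pow_zero, one_mul, hb]⟩
  comm := by
    refine RingHom.congr_fun (f := (Localization.awayMap p (α c)).comp (Localization.awayMap α c))
      (g := (qAway h c).comp (Localization.awayMap β c)) (IsLocalization.ringHom_ext (Submonoid.powers c) ?_)
    ext x
    simp only [RingHom.comp_apply, awayMap_algebraMap, qAway_algebraMap, h.comm]
  ext := by
    intro z z' ha hb
    obtain ⟨n, x, hx⟩ := IsLocalization.Away.surj c z
    obtain ⟨n', x', hx'⟩ := IsLocalization.Away.surj c z'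
    have hu := IsLocalization.Away.algebraMap_isUnit (S := Localization.Away c) c
    have e : z * algebraMap C (Localization.Away c) (c ^ (n + n')) = algebraMap C _ (x * c ^ n') := by
      rw [map_mul, ← hx, map_pow, map_pow, pow_add]; ring
    have e' : z' * algebraMap C (Localization.Away c) (c ^ (n + n')) = algebraMap C _ (x' * c ^ n) := by
      rw [map_mul, ← hx', map_pow, map_pow, pow_add]; ring
    have ha' := congrArg (Localization.awayMap α c) e
    have ha'' := congrArg (Localization.awayMap α c) e'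
    rw [map_mul, awayMap_algebraMap, awayMap_algebraMap] at ha' ha''
    rw [← ha, ha'] at ha''
    obtain ⟨k, hk⟩ := (away_eq_iff (α c) _ _).mp ha''
    have hb' := congrArg (Localization.awayMap β c) e
    have hb'' := congrArg (Localization.awayMap β c) e'
    rw [map_mul, awayMap_algebraMap, awayMap_algebraMap] at hb' hb''
    rw [← hb, hb'] at hb''
    obtain ⟨k', hk'⟩ := (away_eq_iff (β c) _ _).mp hb''
    refine (hu.pow (n + n')).mul_right_cancel ?_
    rw [← map_pow, e, e']
    refine (away_eq_iff c _ _).mpr ⟨k + k', h.ext _ _ ?_ ?_⟩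
    · simp only [map_mul, map_pow, pow_add] at hk ⊢
      linear_combination (α c) ^ k' * hk
    · simp only [map_mul, map_pow, pow_add] at hk' ⊢
      linear_combination (β c) ^ k * hk'
  exists_of_eq := by
    intro b a hab
    obtain ⟨n, x, hx⟩ := IsLocalization.Away.surj (α c) a
    obtain ⟨m, y, hy⟩ := IsLocalization.Away.surj (β c) b
    have hx2 := congrArg (Localization.awayMap p (α c)) hx
    rw [map_mul, map_pow, awayMap_algebraMap, awayMap_algebraMap, hab] at hx2
    have hy2 := congrArg (qAway h c) hy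
    rw [map_mul, map_pow, qAway_algebraMap, qAway_algebraMap, ← h.comm] at hy2
    obtain ⟨k, hk⟩ := (away_eq_iff (p (α c)) _ _).mp
      (show algebraMap A _ (p x * p (α c) ^ m) = algebraMap A (Localization.Away (p (α c))) (q y * p (α c) ^ n) by
        rw [map_mul, map_mul, map_pow, map_pow, ← hx2, ← hy2]; ring)
    obtain ⟨z, hza, hzb⟩ := h.exists_of_eq (y * β c ^ (n + k)) (x * α c ^ (m + k)) (by
      rw [map_mul, map_mul, map_pow, map_pow, ← h.comm]
      linear_combination hk)
    have hu := (IsLocalization.Away.algebraMap_isUnit (S := Localization.Away c) c).pow (n + m + k)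
    refine ⟨algebraMap C _ z * ↑hu.unit⁻¹, ?_, ?_⟩
    · refine ((IsLocalization.Away.algebraMap_isUnit (S := Localization.Away (α c)) (α c)).pow (n + m + k)).mul_right_cancel ?_
      have h1 : Localization.awayMap α c ↑hu.unit⁻¹ * algebraMap A' (Localization.Away (α c)) (α c) ^ (n + m + k) = 1 := by
        rw [← awayMap_algebraMap, ← map_pow (Localization.awayMap α c), ← map_mul, IsUnit.val_inv_mul, map_one]
      rw [map_mul, mul_assoc, h1, mul_one, awayMap_algebraMap, hza, map_mul, map_pow, ← hx, pow_add, pow_add, pow_add]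
      ring
    · refine ((IsLocalization.Away.algebraMap_isUnit (S := Localization.Away (β c)) (β c)).pow (n + m + k)).mul_right_cancel ?_
      have h1 : Localization.awayMap β c ↑hu.unit⁻¹ * algebraMap B (Localization.Away (β c)) (β c) ^ (n + m + k) = 1 := by
        rw [← awayMap_algebraMap, ← map_pow (Localization.awayMap β c), ← map_mul, IsUnit.val_inv_mul, map_one]
      rw [map_mul, mul_assoc, h1, mul_one, awayMap_algebraMap, hzb, map_mul, map_pow, ← hy, pow_add, pow_add, pow_add]
      ring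

theorem IsFibreProd.exists_preimage (h : IsFibreProd p q α β) (P : PrimeSpectrum C) :
    (∃ b, PrimeSpectrum.comap β b = P) ∨ (∃ a, PrimeSpectrum.comap α a = P) := by
  by_cases hk : RingHom.ker β ≤ P.asIdeal
  · haveI := P.2
    left
    exact (range_comap_of_surjective _ β h.beta_surjective).ge hk
  · right
    obtain ⟨i, hi, hiP⟩ := Set.not_subset.mp hk
    haveI : Subsingleton (Localization.Away (β i)) :=
      IsLocalization.subsingleton (M := Submonoid.powers (β i)) ⟨1, (pow_one _).trans hi⟩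
    have hbij : Function.Bijective (Localization.awayMap α i) := by
      refine ⟨fun z z' hz => (h.away i).ext z z' hz (Subsingleton.elim _ _), fun a => ?_⟩
      haveI : Subsingleton (Localization.Away (p (α i))) :=
        IsLocalization.subsingleton (M := Submonoid.powers (p (α i))) ⟨1, (pow_one _).trans (by
          rw [h.comm, show β i = 0 from hi, map_zero])⟩
      obtain ⟨z, hz, -⟩ := (h.away i).exists_of_eq 0 a (Subsingleton.elim _ _)
      exact ⟨z, hz⟩
    obtain ⟨P', rfl⟩ : P ∈ Set.range (PrimeSpectrum.comap (algebraMap C (Localization.Away i))) := by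
      rw [PrimeSpectrum.localization_away_comap_range (Localization.Away i) i]; exact hiP
    obtain ⟨a, rfl⟩ : ∃ a, PrimeSpectrum.comap (Localization.awayMap α i) a = P' :=
      ⟨PrimeSpectrum.comap (RingEquiv.ofBijective _ hbij).symm.toRingHom P', PrimeSpectrum.ext (by
        ext x
        show (RingEquiv.ofBijective _ hbij).symm (Localization.awayMap α i x) ∈ P'.asIdeal ↔ _
        rw [show (RingEquiv.ofBijective _ hbij).symm (Localization.awayMap α i x) = x from (RingEquiv.ofBijective _ hbij).symm_apply_apply x])⟩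
    refine ⟨PrimeSpectrum.comap (algebraMap A' _) a, PrimeSpectrum.ext ?_⟩
    ext x
    show algebraMap A' _ (α x) ∈ a.asIdeal ↔ Localization.awayMap α i (algebraMap C _ x) ∈ a.asIdeal
    rw [awayMap_algebraMap]

/-- `Spec` of the localization at `c`. -/
noncomputable abbrev locMap {R : Type u} [CommRing R] (c : R) :
    Spec (CommRingCat.of (Localization.Away c)) ⟶ Spec (CommRingCat.of R) :=
  Spec.map (CommRingCat.ofHom (algebraMap R (Localization.Away c)))

theorem locMap_range {R : Type u} [CommRing R] (c : R) :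
    Set.range (locMap c) = (PrimeSpectrum.basicOpen c : Set (PrimeSpectrum R)) :=
  PrimeSpectrum.localization_away_comap_range (Localization.Away c) c

theorem spec_awayMap_locMap {R P : Type u} [CommRing R] [CommRing P] (f : R →+* P) (r : R) :
    Spec.map (CommRingCat.ofHom (Localization.awayMap f r)) ≫ locMap r = locMap (f r) ≫ Spec.map (CommRingCat.ofHom f) := by
  rw [← Spec.map_comp, ← Spec.map_comp]
  congr 1
  ext x
  exact awayMap_algebraMap f r x

theorem spec_qAway_locMap (h : IsFibreProd p q α β) (c : C) :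
    Spec.map (CommRingCat.ofHom (qAway h c)) ≫ locMap (β c) = locMap (p (α c)) ≫ Spec.map (CommRingCat.ofHom q) := by
  rw [← Spec.map_comp, ← Spec.map_comp]
  congr 1
  ext x
  exact qAway_algebraMap h c x

theorem locMap_locMap_mem {R : Type u} [CommRing R] (c : R) (x : Spec (CommRingCat.of (Localization.Away c))) :
    locMap c x ∈ (PrimeSpectrum.basicOpen c : Set (PrimeSpectrum R)) := by
  rw [← locMap_range]; exact ⟨x, rfl⟩

/-- Existence and uniqueness of maps to an affine scheme. -/
theorem IsFibreProd.existsUnique_affine (h : IsFibreProd p q α β) {W : Scheme.{u}} [IsAffine W]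
    (g₁ : Spec (CommRingCat.of A') ⟶ W) (g₂ : Spec (CommRingCat.of B) ⟶ W)
    (hg : Spec.map (CommRingCat.ofHom p) ≫ g₁ = Spec.map (CommRingCat.ofHom q) ≫ g₂) :
    ∃! k : Spec (CommRingCat.of C) ⟶ W,
      Spec.map (CommRingCat.ofHom α) ≫ k = g₁ ∧ Spec.map (CommRingCat.ofHom β) ≫ k = g₂ := by
  suffices key : ∀ (R : CommRingCat.{u}) (g₁ : Spec (CommRingCat.of A') ⟶ Spec R)
      (g₂ : Spec (CommRingCat.of B) ⟶ Spec R),
      Spec.map (CommRingCat.ofHom p) ≫ g₁ = Spec.map (CommRingCat.ofHom q) ≫ g₂ →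
      ∃! k : Spec (CommRingCat.of C) ⟶ Spec R,
        Spec.map (CommRingCat.ofHom α) ≫ k = g₁ ∧ Spec.map (CommRingCat.ofHom β) ≫ k = g₂ by
    obtain ⟨k, ⟨hk1, hk2⟩, huniq⟩ := key _ (g₁ ≫ W.isoSpec.hom) (g₂ ≫ W.isoSpec.hom)
      (by rw [← Category.assoc, hg, Category.assoc])
    refine ⟨k ≫ W.isoSpec.inv, ⟨?_, ?_⟩, fun k' hk' => ?_⟩
    · rw [← Category.assoc, hk1, Category.assoc, Iso.hom_inv_id, Category.comp_id]
    · rw [← Category.assoc, hk2, Category.assoc, Iso.hom_inv_id, Category.comp_id]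
    · rw [← huniq (k' ≫ W.isoSpec.hom) ⟨by rw [← Category.assoc, hk'.1], by rw [← Category.assoc, hk'.2]⟩,
        Category.assoc, Iso.hom_inv_id, Category.comp_id]
  intro R g₁ g₂ hg
  obtain ⟨f₁, rfl⟩ := Spec.map_surjective g₁
  obtain ⟨f₂, rfl⟩ := Spec.map_surjective g₂
  rw [← Spec.map_comp, ← Spec.map_comp] at hg
  have hg' : ∀ r, p (f₁.hom r) = q (f₂.hom r) := fun r =>
    RingHom.congr_fun (congrArg CommRingCat.Hom.hom (Spec.map_injective hg)) r
  choose z hza hzb using fun r => h.exists_of_eq (f₂.hom r) (f₁.hom r) (hg' r)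
  let ψ : R →+* C :=
    { toFun := z
      map_one' := h.ext _ _ (by rw [hza, map_one, map_one]) (by rw [hzb, map_one, map_one])
      map_zero' := h.ext _ _ (by rw [hza, map_zero, map_zero]) (by rw [hzb, map_zero, map_zero])
      map_mul' := fun x y => h.ext _ _ (by rw [hza, map_mul, map_mul, hza, hza]) (by rw [hzb, map_mul, map_mul, hzb, hzb])
      map_add' := fun x y => h.ext _ _ (by rw [hza, map_add, map_add, hza, hza]) (by rw [hzb, map_add, map_add, hzb, hzb]) }
  refine ⟨Spec.map (CommRingCat.ofHom ψ), ⟨?_, ?_⟩, fun k hk => ?_⟩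
  · rw [← Spec.map_comp]; congr 1; ext r; exact hza r
  · rw [← Spec.map_comp]; congr 1; ext r; exact hzb r
  · obtain ⟨φ, rfl⟩ := Spec.map_surjective k
    congr 1
    ext r
    rw [← Spec.map_comp, ← Spec.map_comp] at hk
    exact h.ext _ _
      ((RingHom.congr_fun (congrArg CommRingCat.Hom.hom (Spec.map_injective hk.1)) r).trans (hza r).symm)
      ((RingHom.congr_fun (congrArg CommRingCat.Hom.hom (Spec.map_injective hk.2)) r).trans (hzb r).symm)

theorem IsFibreProd.existsUnique_of_range (h : IsFibreProd p q α β) {T : Scheme.{u}} {W : T.Opens}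
    (hW : IsAffineOpen W) (g₁ : Spec (CommRingCat.of A') ⟶ T) (g₂ : Spec (CommRingCat.of B) ⟶ T)
    (hg : Spec.map (CommRingCat.ofHom p) ≫ g₁ = Spec.map (CommRingCat.ofHom q) ≫ g₂)
    (h₁ : Set.range g₁ ⊆ W) (h₂ : Set.range g₂ ⊆ W) :
    ∃! k : Spec (CommRingCat.of C) ⟶ T,
      Spec.map (CommRingCat.ofHom α) ≫ k = g₁ ∧ Spec.map (CommRingCat.ofHom β) ≫ k = g₂ := by
  haveI : IsAffine W.toScheme := hW
  have hr : Set.range W.ι = (W : Set T) := W.range_ι
  let l₁ := IsOpenImmersion.lift W.ι g₁ (by rw [hr]; exact h₁)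
  let l₂ := IsOpenImmersion.lift W.ι g₂ (by rw [hr]; exact h₂)
  obtain ⟨k, ⟨hk1, hk2⟩, huniq⟩ := h.existsUnique_affine l₁ l₂ (by
    rw [← cancel_mono W.ι, Category.assoc, Category.assoc, IsOpenImmersion.lift_fac, IsOpenImmersion.lift_fac, hg])
  refine ⟨k ≫ W.ι, ⟨?_, ?_⟩, fun k' hk' => ?_⟩
  · rw [← Category.assoc, hk1, IsOpenImmersion.lift_fac]
  · rw [← Category.assoc, hk2, IsOpenImmersion.lift_fac]
  · have hk'W : Set.range k' ⊆ W := by
      rintro _ ⟨x, rfl⟩
      rcases h.exists_preimage x with ⟨b, rfl⟩ | ⟨a, rfl⟩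
      · exact h₂ ⟨b, by rw [← hk'.2]; rfl⟩
      · exact h₁ ⟨a, by rw [← hk'.1]; rfl⟩
    rw [← huniq (IsOpenImmersion.lift W.ι k' (by rw [hr]; exact hk'W)) ⟨?_, ?_⟩, IsOpenImmersion.lift_fac]
    · rw [← cancel_mono W.ι, Category.assoc, IsOpenImmersion.lift_fac, IsOpenImmersion.lift_fac, hk'.1]
    · rw [← cancel_mono W.ι, Category.assoc, IsOpenImmersion.lift_fac, IsOpenImmersion.lift_fac, hk'.2]

theorem IsFibreProd.hom_ext (h : IsFibreProd p q α β) {T : Scheme.{u}} {k k' : Spec (CommRingCat.of C) ⟶ T}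
    (h₁ : Spec.map (CommRingCat.ofHom α) ≫ k = Spec.map (CommRingCat.ofHom α) ≫ k')
    (h₂ : Spec.map (CommRingCat.ofHom β) ≫ k = Spec.map (CommRingCat.ofHom β) ≫ k') : k = k' := by
  have hpt : ∀ x, k x = k' x := fun x => by
    rcases h.exists_preimage x with ⟨b, rfl⟩ | ⟨a, rfl⟩
    · exact congr($h₂ b)
    · exact congr($h₁ a)
  have hloc : ∀ x : PrimeSpectrum C, ∃ c, x ∈ PrimeSpectrum.basicOpen c ∧ locMap c ≫ k = locMap c ≫ k' := by
    intro x
    obtain ⟨_, ⟨W, hW, rfl⟩, hxW, -⟩ := T.isBasis_affineOpens.exists_subset_of_mem_open (Set.mem_univ (k x)) isOpen_univ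
    replace hW : IsAffineOpen W := hW
    obtain ⟨_, ⟨c, rfl⟩, hxc, hsub⟩ := PrimeSpectrum.isTopologicalBasis_basic_opens.exists_subset_of_mem_open
      (show x ∈ k ⁻¹' (W : Set T) from hxW) ((W.isOpen).preimage k.continuous)
    refine ⟨c, hxc, ?_⟩
    have hc : Spec.map (CommRingCat.ofHom (Localization.awayMap p (α c))) ≫ locMap (α c) ≫ Spec.map (CommRingCat.ofHom α) =
        Spec.map (CommRingCat.ofHom (qAway h c)) ≫ locMap (β c) ≫ Spec.map (CommRingCat.ofHom β) := by
      have e0 : Spec.map (CommRingCat.ofHom p) ≫ Spec.map (CommRingCat.ofHom α) =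
          Spec.map (CommRingCat.ofHom q) ≫ Spec.map (CommRingCat.ofHom β) := by
        rw [← Spec.map_comp, ← Spec.map_comp]; congr 1; ext z; exact h.comm z
      rw [← Category.assoc, spec_awayMap_locMap, ← Category.assoc, spec_qAway_locMap, Category.assoc, Category.assoc, e0]
    refine ((h.away c).existsUnique_of_range hW (locMap (α c) ≫ Spec.map (CommRingCat.ofHom α) ≫ k)
      (locMap (β c) ≫ Spec.map (CommRingCat.ofHom β) ≫ k) ?_ ?_ ?_).unique ⟨?_, ?_⟩ ⟨?_, ?_⟩
    · simp only [← Category.assoc] at hc ⊢; rw [hc]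
    · rintro _ ⟨y, rfl⟩
      exact hsub (show α c ∉ _ from locMap_locMap_mem (α c) y)
    · rintro _ ⟨y, rfl⟩
      exact hsub (show β c ∉ _ from locMap_locMap_mem (β c) y)
    · rw [← Category.assoc, spec_awayMap_locMap, Category.assoc]
    · rw [← Category.assoc, spec_awayMap_locMap, Category.assoc]
    · rw [← Category.assoc, spec_awayMap_locMap, Category.assoc, h₁]
    · rw [← Category.assoc, spec_awayMap_locMap, Category.assoc, h₂]
  choose c hc heq using hloc
  exact Scheme.Cover.hom_ext (Scheme.affineOpenCoverOfSpanRangeEqTop (R := CommRingCat.of C) c (by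
    by_contra hne
    obtain ⟨m, hm, hle⟩ := Ideal.exists_le_maximal _ hne
    exact hc ⟨m, hm.isPrime⟩ (hle (Ideal.subset_span ⟨_, rfl⟩)))).openCover _ _ heq

theorem IsFibreProd.exists_desc (h : IsFibreProd p q α β) {T : Scheme.{u}}
    (g₁ : Spec (CommRingCat.of A') ⟶ T) (g₂ : Spec (CommRingCat.of B) ⟶ T)
    (hg : Spec.map (CommRingCat.ofHom p) ≫ g₁ = Spec.map (CommRingCat.ofHom q) ≫ g₂) :
    ∃ k : Spec (CommRingCat.of C) ⟶ T,
      Spec.map (CommRingCat.ofHom α) ≫ k = g₁ ∧ Spec.map (CommRingCat.ofHom β) ≫ k = g₂ := by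
  have hloc : ∀ P : PrimeSpectrum C, ∃ c, P ∈ PrimeSpectrum.basicOpen c ∧
      ∃ k : Spec (CommRingCat.of (Localization.Away c)) ⟶ T,
        Spec.map (CommRingCat.ofHom (Localization.awayMap α c)) ≫ k = locMap (α c) ≫ g₁ ∧
        Spec.map (CommRingCat.ofHom (Localization.awayMap β c)) ≫ k = locMap (β c) ≫ g₂ := by
    intro P
    have mk : ∀ (c : C) (W : T.Opens), IsAffineOpen W →
        (PrimeSpectrum.basicOpen (α c) : Set (PrimeSpectrum A')) ⊆ g₁ ⁻¹' (W : Set T) →
        (PrimeSpectrum.basicOpen (β c) : Set (PrimeSpectrum B)) ⊆ g₂ ⁻¹' (W : Set T) →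
        ∃ k : Spec (CommRingCat.of (Localization.Away c)) ⟶ T,
          Spec.map (CommRingCat.ofHom (Localization.awayMap α c)) ≫ k = locMap (α c) ≫ g₁ ∧
          Spec.map (CommRingCat.ofHom (Localization.awayMap β c)) ≫ k = locMap (β c) ≫ g₂ := by
      intro c W hW hs1 hs2
      refine ((h.away c).existsUnique_of_range hW (locMap (α c) ≫ g₁) (locMap (β c) ≫ g₂) ?_ ?_ ?_).exists
      · rw [← Category.assoc, spec_awayMap_locMap, ← Category.assoc, spec_qAway_locMap, Category.assoc,
          Category.assoc, hg]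
      · rintro _ ⟨y, rfl⟩; exact hs1 (locMap_locMap_mem (α c) y)
      · rintro _ ⟨y, rfl⟩; exact hs2 (locMap_locMap_mem (β c) y)
    by_cases hk : RingHom.ker β ≤ P.asIdeal
    · obtain ⟨b, rfl⟩ : P ∈ Set.range (PrimeSpectrum.comap β) :=
        (range_comap_of_surjective _ β h.beta_surjective).ge hk
      obtain ⟨_, ⟨W, hW, rfl⟩, hbW, -⟩ :=
        T.isBasis_affineOpens.exists_subset_of_mem_open (Set.mem_univ (g₂ b)) isOpen_univ
      replace hW : IsAffineOpen W := hW
      obtain ⟨_, ⟨b₀, rfl⟩, hbb₀, hsub⟩ := PrimeSpectrum.isTopologicalBasis_basic_opens.exists_subset_of_mem_open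
        (show b ∈ g₂ ⁻¹' (W : Set T) from hbW) ((W.isOpen).preimage g₂.continuous)
      obtain ⟨J, hJ⟩ := (PrimeSpectrum.isClosed_iff_zeroLocus_ideal _).mp
        (((W.isOpen).preimage g₁.continuous).isClosed_compl)
      obtain ⟨a₀, ha₀⟩ := h.surj (q b₀)
      have hrad : a₀ ∈ (J ⊔ RingHom.ker p).radical := by
        rw [Ideal.radical_eq_sInf, Submodule.mem_sInf]
        rintro Q ⟨hle, hQ⟩
        by_contra hQa
        obtain ⟨x, hx⟩ : (⟨Q, hQ⟩ : PrimeSpectrum A') ∈ Set.range (PrimeSpectrum.comap p) :=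
          (range_comap_of_surjective _ p h.surj).ge (le_sup_right.trans hle)
        have hxb : PrimeSpectrum.comap q x ∈ (PrimeSpectrum.basicOpen b₀ : Set (PrimeSpectrum B)) := by
          show q b₀ ∉ x.asIdeal
          rw [← ha₀]
          have : Q = x.asIdeal.comap p := congrArg PrimeSpectrum.asIdeal hx.symm
          rw [this] at hQa
          exact hQa
        have h1 : g₁ (⟨Q, hQ⟩ : PrimeSpectrum A') ∈ W := by
          rw [← hx]
          have he : g₁ (PrimeSpectrum.comap p x) = g₂ (PrimeSpectrum.comap q x) := congr($hg x)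
          rw [he]; exact hsub hxb
        exact (hJ.ge (show (⟨Q, hQ⟩ : PrimeSpectrum A') ∈ PrimeSpectrum.zeroLocus (J : Set A') from
          (PrimeSpectrum.mem_zeroLocus _ _).mpr (SetLike.coe_subset_coe.mpr (le_sup_left.trans hle)))) h1
      obtain ⟨n, hn⟩ := hrad
      replace hn : a₀ ^ (n + 1) ∈ J ⊔ RingHom.ker p := by
        rw [pow_succ]; exact Ideal.mul_mem_right _ _ hn
      obtain ⟨j, hj, i, hi, hji⟩ := Submodule.mem_sup.mp hn
      obtain ⟨c, hca, hcb⟩ := h.exists_of_eq (b₀ ^ (n + 1)) j (by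
        rw [map_pow, ← ha₀, ← map_pow, ← hji, map_add, show p i = 0 from hi, add_zero])
      refine ⟨c, ?_, mk c W hW ?_ ?_⟩
      · show β c ∉ b.asIdeal
        rw [hcb]; exact fun hmem => hbb₀ (b.2.mem_of_pow_mem (n + 1) hmem)
      · intro y hy
        by_contra hy'
        exact hy ((hJ.le hy') (hca ▸ hj))
      · intro y hy
        refine hsub (fun hmem => ?_)
        exact hy (by rw [hcb]; exact Ideal.pow_mem_of_mem _ hmem _ (Nat.succ_pos n))
    · obtain ⟨i, hi, hiP⟩ := Set.not_subset.mp hk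
      obtain ⟨a, ha⟩ : ∃ a, PrimeSpectrum.comap α a = P := by
        refine (h.exists_preimage P).resolve_left ?_
        rintro ⟨b, rfl⟩
        exact hiP (by show β i ∈ b.asIdeal; rw [show β i = 0 from hi]; exact zero_mem _)
      subst ha
      obtain ⟨_, ⟨W, hW, rfl⟩, haW, -⟩ :=
        T.isBasis_affineOpens.exists_subset_of_mem_open (Set.mem_univ (g₁ a)) isOpen_univ
      replace hW : IsAffineOpen W := hW
      obtain ⟨_, ⟨a₁, rfl⟩, haa₁, hsub⟩ := PrimeSpectrum.isTopologicalBasis_basic_opens.exists_subset_of_mem_open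
        (show a ∈ g₁ ⁻¹' (W : Set T) from haW) ((W.isOpen).preimage g₁.continuous)
      obtain ⟨c, hca, hcb⟩ := h.exists_of_eq 0 (α i * a₁) (by
        rw [map_mul, h.comm, show β i = 0 from hi, map_zero, zero_mul])
      refine ⟨c, ?_, mk c W hW ?_ ?_⟩
      · show α c ∉ a.asIdeal
        rw [hca]; exact fun hmem => (a.2.mem_or_mem hmem).elim hiP haa₁
      · intro y hy
        exact hsub (fun hmem => hy (by rw [hca]; exact Ideal.mul_mem_left _ _ hmem))
      · intro y hy
        exact absurd (hcb ▸ zero_mem _) hy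
  choose c hc k hk1 hk2 using hloc
  let 𝒰 := (Scheme.affineOpenCoverOfSpanRangeEqTop (R := CommRingCat.of C) c (by
    by_contra hne
    obtain ⟨m, hm, hle⟩ := Ideal.exists_le_maximal _ hne
    exact hc ⟨m, hm.isPrime⟩ (hle (Ideal.subset_span ⟨_, rfl⟩)))).openCover
  have hcompat : ∀ (x y : PrimeSpectrum C),
      pullback.fst (locMap (c x)) (locMap (c y)) ≫ k x = pullback.snd (locMap (c x)) (locMap (c y)) ≫ k y := by
    intro x y
    let e := c x * c y
    have hsubx : Set.range (locMap e) ⊆ Set.range (locMap (c x)) := by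
      rw [locMap_range, locMap_range]; exact PrimeSpectrum.basicOpen_mul_le_left _ _
    have hsuby : Set.range (locMap e) ⊆ Set.range (locMap (c y)) := by
      rw [locMap_range, locMap_range]; exact PrimeSpectrum.basicOpen_mul_le_right _ _
    let m : Spec (CommRingCat.of (Localization.Away e)) ⟶ pullback (locMap (c x)) (locMap (c y)) :=
      pullback.lift (IsOpenImmersion.lift _ _ hsubx) (IsOpenImmersion.lift _ _ hsuby)
        (by rw [IsOpenImmersion.lift_fac, IsOpenImmersion.lift_fac])
    haveI : IsOpenImmersion m := by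
      haveI : IsOpenImmersion (m ≫ pullback.fst (locMap (c x)) (locMap (c y)) ≫ locMap (c x)) := by
        rw [pullback.lift_fst_assoc, IsOpenImmersion.lift_fac]; infer_instance
      exact IsOpenImmersion.of_comp m (pullback.fst (locMap (c x)) (locMap (c y)) ≫ locMap (c x))
    haveI : Surjective m := ⟨fun z => by
      have hz : (pullback.fst (locMap (c x)) (locMap (c y)) ≫ locMap (c x)) z ∈ Set.range (locMap e) := by
        rw [locMap_range]
        intro hmem
        rcases (Ideal.IsPrime.mem_or_mem inferInstance hmem) with h1 | h1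
        · exact locMap_locMap_mem (c x) (pullback.fst (locMap (c x)) (locMap (c y)) z) h1
        · refine locMap_locMap_mem (c y) (pullback.snd (locMap (c x)) (locMap (c y)) z) ?_
          have := congr($(pullback.condition (f := locMap (c x)) (g := locMap (c y))) z)
          exact (congrArg PrimeSpectrum.asIdeal this) ▸ h1
      obtain ⟨w, hw⟩ := hz
      refine ⟨w, (pullback.fst (locMap (c x)) (locMap (c y)) ≫ locMap (c x)).isOpenEmbedding.injective ?_⟩
      rw [← hw]
      show (m ≫ pullback.fst (locMap (c x)) (locMap (c y)) ≫ locMap (c x)) w = _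
      rw [pullback.lift_fst_assoc, IsOpenImmersion.lift_fac]⟩
    haveI : IsIso m := (isIso_iff_isOpenImmersion_and_surjective m).mpr ⟨inferInstance, inferInstance⟩
    rw [← cancel_epi m, pullback.lift_fst_assoc, pullback.lift_snd_assoc]
    have side : ∀ {R : Type u} [CommRing R] (γ : C →+* R) (g : Spec (CommRingCat.of R) ⟶ T) (d : C)
        (kd : Spec (CommRingCat.of (Localization.Away d)) ⟶ T)
        (_ : Spec.map (CommRingCat.ofHom (Localization.awayMap γ d)) ≫ kd = locMap (γ d) ≫ g)
        (hsub : Set.range (locMap e) ⊆ Set.range (locMap d))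
        (hsub' : Set.range (locMap (γ e)) ⊆ Set.range (locMap (γ d))),
        Spec.map (CommRingCat.ofHom (Localization.awayMap γ e)) ≫ IsOpenImmersion.lift (locMap d) (locMap e) hsub ≫ kd =
          locMap (γ e) ≫ g := by
      intro R _ γ g d kd hkd hsub hsub'
      have : Spec.map (CommRingCat.ofHom (Localization.awayMap γ e)) ≫ IsOpenImmersion.lift (locMap d) (locMap e) hsub =
          IsOpenImmersion.lift (locMap (γ d)) (locMap (γ e)) hsub' ≫ Spec.map (CommRingCat.ofHom (Localization.awayMap γ d)) := by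
        rw [← cancel_mono (locMap d), Category.assoc, Category.assoc, IsOpenImmersion.lift_fac, spec_awayMap_locMap,
          spec_awayMap_locMap, IsOpenImmersion.lift_fac_assoc]
      rw [← Category.assoc, this, Category.assoc, hkd, IsOpenImmersion.lift_fac_assoc]
    have hx' : ∀ {R : Type u} [CommRing R] (γ : C →+* R), Set.range (locMap (γ e)) ⊆ Set.range (locMap (γ (c x))) := by
      intro R _ γ; rw [locMap_range, locMap_range, map_mul]; exact PrimeSpectrum.basicOpen_mul_le_left _ _
    have hy' : ∀ {R : Type u} [CommRing R] (γ : C →+* R), Set.range (locMap (γ e)) ⊆ Set.range (locMap (γ (c y))) := by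
      intro R _ γ; rw [locMap_range, locMap_range, map_mul]; exact PrimeSpectrum.basicOpen_mul_le_right _ _
    refine (h.away e).hom_ext ?_ ?_
    · rw [side α g₁ _ _ (hk1 x) hsubx (hx' α), side α g₁ _ _ (hk1 y) hsuby (hy' α)]
    · rw [side β g₂ _ _ (hk2 x) hsubx (hx' β), side β g₂ _ _ (hk2 y) hsuby (hy' β)]
  refine ⟨Scheme.Cover.glueMorphisms 𝒰 k hcompat, ?_, ?_⟩
  · refine Scheme.Cover.hom_ext (Scheme.affineOpenCoverOfSpanRangeEqTop (R := CommRingCat.of A') (fun x => α (c x)) ?_).openCover
      _ _ (fun x => ?_)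
    · by_contra hne
      obtain ⟨m, hm, hle⟩ := Ideal.exists_le_maximal _ hne
      exact hc (PrimeSpectrum.comap α ⟨m, hm.isPrime⟩) (hle (Ideal.subset_span ⟨_, rfl⟩))
    · show locMap (α (c x)) ≫ _ ≫ _ = locMap (α (c x)) ≫ g₁
      rw [← Category.assoc, ← spec_awayMap_locMap, Category.assoc]
      erw [Scheme.Cover.ι_glueMorphisms 𝒰 k hcompat x]
      exact hk1 x
  · refine Scheme.Cover.hom_ext (Scheme.affineOpenCoverOfSpanRangeEqTop (R := CommRingCat.of B) (fun x => β (c x)) ?_).openCover
      _ _ (fun x => ?_)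
    · by_contra hne
      obtain ⟨m, hm, hle⟩ := Ideal.exists_le_maximal _ hne
      exact hc (PrimeSpectrum.comap β ⟨m, hm.isPrime⟩) (hle (Ideal.subset_span ⟨_, rfl⟩))
    · show locMap (β (c x)) ≫ _ ≫ _ = locMap (β (c x)) ≫ g₂
      rw [← Category.assoc, ← spec_awayMap_locMap, Category.assoc]
      erw [Scheme.Cover.ι_glueMorphisms 𝒰 k hcompat x]
      exact hk2 x

theorem IsFibreProd.isPushout (h : IsFibreProd p q α β) :
    IsPushout (Spec.map (CommRingCat.ofHom p)) (Spec.map (CommRingCat.ofHom q))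
      (Spec.map (CommRingCat.ofHom α)) (Spec.map (CommRingCat.ofHom β)) := by
  have w : Spec.map (CommRingCat.ofHom p) ≫ Spec.map (CommRingCat.ofHom α) =
      Spec.map (CommRingCat.ofHom q) ≫ Spec.map (CommRingCat.ofHom β) := by
    rw [← Spec.map_comp, ← Spec.map_comp]; congr 1; ext z; exact h.comm z
  choose d hd1 hd2 using fun (s : PushoutCocone (Spec.map (CommRingCat.ofHom p)) (Spec.map (CommRingCat.ofHom q))) =>
    h.exists_desc s.inl s.inr s.condition
  exact ⟨⟨w⟩, ⟨PushoutCocone.IsColimit.mk _ d hd1 hd2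
    (fun s m hm1 hm2 => h.hom_ext (hm1.trans (hd1 s).symm) (hm2.trans (hd2 s).symm))⟩⟩

end RingPO
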