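import Mathlib
import Groth.Agent.RingPO.Affine

universe u
set_option autoImplicit false
open AlgebraicGeometry CategoryTheory CategoryTheory.Limits

namespace RingPO

variable {A A' B C : Type u} [CommRing A] [CommRing A'] [CommRing B] [CommRing C]
variable {p : A' →+* A} {q : B →+* A} {α : C →+* A'} {β : C →+* B}

theorem IsFibreProd.comap_beta_injective (h : IsFibreProd p q α β) : Function.Injective (PrimeSpectrum.comap β) :=
  PrimeSpectrum.comap_injective_of_surjective β h.beta_surjective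

theorem IsFibreProd.fib_or (h : IsFibreProd p q α β) {a a' : PrimeSpectrum A'}
    (haa : PrimeSpectrum.comap α a = PrimeSpectrum.comap α a') :
    a = a' ∨ ∃ x x' : PrimeSpectrum A, PrimeSpectrum.comap p x = a ∧ PrimeSpectrum.comap p x' = a' ∧
      PrimeSpectrum.comap q x = PrimeSpectrum.comap q x' := by
  have hiff : ∀ z, α z ∈ a.asIdeal ↔ α z ∈ a'.asIdeal := fun z => Iff.of_eq (congrArg (fun P => z ∈ PrimeSpectrum.asIdeal P) haa)
  by_cases hk : RingHom.ker p ≤ a.asIdeal
  · by_cases hk' : RingHom.ker p ≤ a'.asIdeal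
    · obtain ⟨x, hx⟩ : a ∈ Set.range (PrimeSpectrum.comap p) := (range_comap_of_surjective _ p h.surj).ge hk
      obtain ⟨x', hx'⟩ : a' ∈ Set.range (PrimeSpectrum.comap p) := (range_comap_of_surjective _ p h.surj).ge hk'
      refine Or.inr ⟨x, x', hx, hx', h.comap_beta_injective (PrimeSpectrum.ext (Ideal.ext fun z => ?_))⟩
      show q (β z) ∈ x.asIdeal ↔ q (β z) ∈ x'.asIdeal
      rw [← h.comm]
      have := hiff z
      rw [← hx, ← hx'] at this
      exact this
    · obtain ⟨t, ht, hta⟩ := Set.not_subset.mp hk'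
      obtain ⟨z, hz, -⟩ := h.exists_of_eq 0 t (by rw [map_zero]; exact ht)
      exact absurd (hz ▸ (hiff z).mp (hz.symm ▸ hk ht)) hta
  · left
    obtain ⟨t, ht, hta⟩ := Set.not_subset.mp hk
    have hta' : t ∉ a'.asIdeal := fun hm => by
      obtain ⟨z, hz, -⟩ := h.exists_of_eq 0 t (by rw [map_zero]; exact ht)
      exact hta (hz ▸ (hiff z).mpr (hz.symm ▸ hm))
    refine PrimeSpectrum.ext (Ideal.ext fun s => ?_)
    obtain ⟨z, hz, -⟩ := h.exists_of_eq 0 (t * s) (by rw [map_zero, map_mul, show p t = 0 from ht, zero_mul])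
    have := hiff z
    rw [hz] at this
    exact ⟨fun hs => (a'.2.mem_or_mem (this.mp (Ideal.mul_mem_left _ _ hs))).resolve_left hta',
      fun hs => (a.2.mem_or_mem (this.mpr (Ideal.mul_mem_left _ _ hs))).resolve_left hta⟩

theorem IsFibreProd.exists_of_comap_eq (h : IsFibreProd p q α β) {a : PrimeSpectrum A'} {b : PrimeSpectrum B}
    (hab : PrimeSpectrum.comap α a = PrimeSpectrum.comap β b) :
    ∃ x, PrimeSpectrum.comap p x = a ∧ PrimeSpectrum.comap q x = b := by
  have hiff : ∀ z, α z ∈ a.asIdeal ↔ β z ∈ b.asIdeal := fun z => Iff.of_eq (congrArg (fun P => z ∈ PrimeSpectrum.asIdeal P) hab)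
  obtain ⟨x, hx⟩ : a ∈ Set.range (PrimeSpectrum.comap p) := (range_comap_of_surjective _ p h.surj).ge (fun t ht => by
    obtain ⟨z, hz, hzb⟩ := h.exists_of_eq 0 t (by rw [map_zero]; exact ht)
    show t ∈ a.asIdeal
    rw [← hz, hiff, hzb]; exact zero_mem _)
  refine ⟨x, hx, h.comap_beta_injective (PrimeSpectrum.ext (Ideal.ext fun z => ?_))⟩
  show q (β z) ∈ x.asIdeal ↔ β z ∈ b.asIdeal
  rw [← h.comm, ← hiff, ← hx]; rfl

theorem IsFibreProd.exists_basic (h : IsFibreProd p q α β) {U' : Set (PrimeSpectrum A')} {V' : Set (PrimeSpectrum B)}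
    (hU : IsOpen U') (hV : IsOpen V')
    (hUV : ∀ x, PrimeSpectrum.comap p x ∈ U' ↔ PrimeSpectrum.comap q x ∈ V') {P : PrimeSpectrum C}
    (hPA : ∀ a, PrimeSpectrum.comap α a = P → a ∈ U') (hPB : ∀ b, PrimeSpectrum.comap β b = P → b ∈ V') :
    ∃ e : C, P ∈ PrimeSpectrum.basicOpen e ∧ (PrimeSpectrum.basicOpen (α e) : Set (PrimeSpectrum A')) ⊆ U' ∧
      (PrimeSpectrum.basicOpen (β e) : Set (PrimeSpectrum B)) ⊆ V' := by
  by_cases hk : RingHom.ker β ≤ P.asIdeal
  · obtain ⟨b, rfl⟩ : P ∈ Set.range (PrimeSpectrum.comap β) :=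
      (range_comap_of_surjective _ β h.beta_surjective).ge hk
    obtain ⟨_, ⟨b₀, rfl⟩, hbb₀, hsub⟩ := PrimeSpectrum.isTopologicalBasis_basic_opens.exists_subset_of_mem_open
      (hPB b rfl) hV
    obtain ⟨J, hJ⟩ := (PrimeSpectrum.isClosed_iff_zeroLocus_ideal _).mp hU.isClosed_compl
    obtain ⟨a₀, ha₀⟩ := h.surj (q b₀)
    have hrad : a₀ ∈ (J ⊔ RingHom.ker p).radical := by
      rw [Ideal.radical_eq_sInf, Submodule.mem_sInf]
      rintro Q ⟨hle, hQ⟩
      by_contra hQa
      obtain ⟨x, hx⟩ : (⟨Q, hQ⟩ : PrimeSpectrum A') ∈ Set.range (PrimeSpectrum.comap p) :=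
        (range_comap_of_surjective _ p h.surj).ge (le_sup_right.trans hle)
      have hxb : PrimeSpectrum.comap q x ∈ (PrimeSpectrum.basicOpen b₀ : Set (PrimeSpectrum B)) := by
        show q b₀ ∉ x.asIdeal
        rw [← ha₀]
        have : Q = x.asIdeal.comap p := congrArg PrimeSpectrum.asIdeal hx.symm
        rw [this] at hQa
        exact hQa
      have h1 : (⟨Q, hQ⟩ : PrimeSpectrum A') ∈ U' := hx ▸ (hUV x).mpr (hsub hxb)
      exact (hJ.ge (show (⟨Q, hQ⟩ : PrimeSpectrum A') ∈ PrimeSpectrum.zeroLocus (J : Set A') from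
        (PrimeSpectrum.mem_zeroLocus _ _).mpr (SetLike.coe_subset_coe.mpr (le_sup_left.trans hle)))) h1
    obtain ⟨n, hn⟩ := hrad
    replace hn : a₀ ^ (n + 1) ∈ J ⊔ RingHom.ker p := by
      rw [pow_succ]; exact Ideal.mul_mem_right _ _ hn
    obtain ⟨j, hj, i, hi, hji⟩ := Submodule.mem_sup.mp hn
    obtain ⟨c, hca, hcb⟩ := h.exists_of_eq (b₀ ^ (n + 1)) j (by
      rw [map_pow, ← ha₀, ← map_pow, ← hji, map_add, show p i = 0 from hi, add_zero])
    refine ⟨c, ?_, ?_, ?_⟩
    · show β c ∉ b.asIdeal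
      rw [hcb]; exact fun hmem => hbb₀ (b.2.mem_of_pow_mem (n + 1) hmem)
    · intro y hy
      by_contra hy'
      exact hy ((hJ.le hy') (hca ▸ hj))
    · intro y hy
      exact hsub (fun hmem => hy (by rw [hcb]; exact Ideal.pow_mem_of_mem _ hmem _ (Nat.succ_pos n)))
  · obtain ⟨i, hi, hiP⟩ := Set.not_subset.mp hk
    obtain ⟨a, rfl⟩ : ∃ a, PrimeSpectrum.comap α a = P := by
      refine (h.exists_preimage P).resolve_left ?_
      rintro ⟨b, rfl⟩
      exact hiP (by show β i ∈ b.asIdeal; rw [show β i = 0 from hi]; exact zero_mem _)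
    obtain ⟨_, ⟨a₁, rfl⟩, haa₁, hsub⟩ := PrimeSpectrum.isTopologicalBasis_basic_opens.exists_subset_of_mem_open
      (hPA a rfl) hU
    obtain ⟨c, hca, hcb⟩ := h.exists_of_eq 0 (α i * a₁) (by
      rw [map_mul, h.comm, show β i = 0 from hi, map_zero, zero_mul])
    refine ⟨c, ?_, ?_, ?_⟩
    · show α c ∉ a.asIdeal
      rw [hca]; exact fun hmem => (a.2.mem_or_mem hmem).elim hiP haa₁
    · intro y hy
      exact hsub (fun hmem => hy (by rw [hca]; exact Ideal.mul_mem_left _ _ hmem))
    · intro y hy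
      exact absurd (hcb ▸ zero_mem _) hy

theorem awayMap_bijective_of_isOpenImmersion {R S : Type u} [CommRing R] [CommRing S] (f : R →+* S)
    [IsOpenImmersion (Spec.map (CommRingCat.ofHom f))] (r : R)
    (hr : (PrimeSpectrum.basicOpen r : Set (PrimeSpectrum R)) ⊆ Set.range (PrimeSpectrum.comap f)) :
    Function.Bijective (Localization.awayMap f r) := by
  let g := Spec.map (CommRingCat.ofHom f) ∣_ (PrimeSpectrum.basicOpen r)
  haveI : Surjective g := ⟨fun z => by
    obtain ⟨w, hw⟩ := hr z.2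
    exact ⟨⟨w, show Spec.map (CommRingCat.ofHom f) w ∈ PrimeSpectrum.basicOpen r from
        (show Spec.map (CommRingCat.ofHom f) w = z.1 from hw) ▸ z.2⟩,
      Subtype.ext ((morphismRestrict_base_coe _ _ _).trans hw)⟩⟩
  haveI hg : IsIso g := (isIso_iff_isOpenImmersion_and_surjective g).mpr ⟨inferInstance, inferInstance⟩
  haveI : IsIso (Spec.map (CommRingCat.ofHom (Localization.awayMap f r))) :=
    ((MorphismProperty.isomorphisms Scheme).arrow_mk_iso_iff (SpecMapRestrictBasicOpenIso (CommRingCat.ofHom f) r)).mp hg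
  exact isIso_SpecMap_iff.mp ‹IsIso (Spec.map (CommRingCat.ofHom (Localization.awayMap f r)))›

section Morphism

variable {A₀ A₀' B₀ C₀ : Type u} [CommRing A₀] [CommRing A₀'] [CommRing B₀] [CommRing C₀]
variable {p₀ : A₀' →+* A₀} {q₀ : B₀ →+* A₀} {α₀ : C₀ →+* A₀'} {β₀ : C₀ →+* B₀}

/-- A map of fibre product squares which is open on the three corners is an open immersion on the fibre products. -/
theorem IsFibreProd.isOpenImmersion_map (h : IsFibreProd p q α β) (h₀ : IsFibreProd p₀ q₀ α₀ β₀)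
    (a' : A' →+* A₀') (b : B →+* B₀) (a : A →+* A₀) (r : C →+* C₀)
    [IsOpenImmersion (Spec.map (CommRingCat.ofHom a'))] [IsOpenImmersion (Spec.map (CommRingCat.ofHom b))]
    [IsOpenImmersion (Spec.map (CommRingCat.ofHom a))]
    (hp : p₀.comp a' = a.comp p) (hq : q₀.comp b = a.comp q) (hα : α₀.comp r = a'.comp α) (hβ : β₀.comp r = b.comp β)
    (h1 : ∀ x, PrimeSpectrum.comap p x ∈ Set.range (PrimeSpectrum.comap a') ↔ x ∈ Set.range (PrimeSpectrum.comap a))
    (h2 : ∀ x, PrimeSpectrum.comap q x ∈ Set.range (PrimeSpectrum.comap b) ↔ x ∈ Set.range (PrimeSpectrum.comap a)) :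
    IsOpenImmersion (Spec.map (CommRingCat.ofHom r)) ∧
      Set.range (PrimeSpectrum.comap r) = {P | (∀ y, PrimeSpectrum.comap α y = P → y ∈ Set.range (PrimeSpectrum.comap a')) ∧
        (∀ y, PrimeSpectrum.comap β y = P → y ∈ Set.range (PrimeSpectrum.comap b))} := by
  set ρ := Spec.map (CommRingCat.ofHom r)
  set UA := Set.range (PrimeSpectrum.comap a')
  set UB := Set.range (PrimeSpectrum.comap b)
  set O : Set (PrimeSpectrum C) := {P | (∀ y, PrimeSpectrum.comap α y = P → y ∈ UA) ∧
        (∀ y, PrimeSpectrum.comap β y = P → y ∈ UB)}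
  have hUA : IsOpen UA := (Spec.map (CommRingCat.ofHom a')).isOpenEmbedding.isOpen_range
  have hUB : IsOpen UB := (Spec.map (CommRingCat.ofHom b)).isOpenEmbedding.isOpen_range
  have hUV : ∀ x, PrimeSpectrum.comap p x ∈ UA ↔ PrimeSpectrum.comap q x ∈ UB := fun x => (h1 x).trans (h2 x).symm
  have hsubO : ∀ e : C, (PrimeSpectrum.basicOpen (α e) : Set (PrimeSpectrum A')) ⊆ UA →
      (PrimeSpectrum.basicOpen (β e) : Set (PrimeSpectrum B)) ⊆ UB →
      (PrimeSpectrum.basicOpen e : Set (PrimeSpectrum C)) ⊆ O := by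
    intro e he1 he2 P hP
    exact ⟨fun y hy => he1 (by rw [← hy] at hP; exact hP), fun y hy => he2 (by rw [← hy] at hP; exact hP)⟩
  have hO : IsOpen O := by
    rw [isOpen_iff_forall_mem_open]
    intro P hP
    obtain ⟨e, hPe, he1, he2⟩ := h.exists_basic hUA hUB hUV hP.1 hP.2
    exact ⟨_, hsubO e he1 he2, (PrimeSpectrum.basicOpen e).isOpen, hPe⟩
  have hrange : Set.range (PrimeSpectrum.comap r) ⊆ O := by
    have hsqα : ∀ y₀, PrimeSpectrum.comap r (PrimeSpectrum.comap α₀ y₀) = PrimeSpectrum.comap α (PrimeSpectrum.comap a' y₀) :=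
      fun y₀ => by rw [← PrimeSpectrum.comap_comp_apply, ← PrimeSpectrum.comap_comp_apply, hα]
    have hsqβ : ∀ y₀, PrimeSpectrum.comap r (PrimeSpectrum.comap β₀ y₀) = PrimeSpectrum.comap β (PrimeSpectrum.comap b y₀) :=
      fun y₀ => by rw [← PrimeSpectrum.comap_comp_apply, ← PrimeSpectrum.comap_comp_apply, hβ]
    rintro _ ⟨P₀, rfl⟩
    rcases h₀.exists_preimage P₀ with ⟨y₀, rfl⟩ | ⟨y₀, rfl⟩
    · refine ⟨fun y hy => ?_, fun y hy => ?_⟩
      · rw [hsqβ] at hy
        obtain ⟨x, rfl, hx⟩ := h.exists_of_comap_eq hy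
        exact (hUV x).mpr (hx ▸ ⟨y₀, rfl⟩)
      · rw [hsqβ] at hy
        exact ⟨y₀, (h.comap_beta_injective hy).symm⟩
    · refine ⟨fun y hy => ?_, fun y hy => ?_⟩
      · rw [hsqα] at hy
        rcases h.fib_or hy with rfl | ⟨x, x', rfl, hx', hxx⟩
        · exact ⟨y₀, rfl⟩
        · exact (hUV x).mpr (hxx ▸ (hUV x').mp (hx' ▸ ⟨y₀, rfl⟩))
      · rw [hsqα] at hy
        obtain ⟨x, hx, rfl⟩ := h.exists_of_comap_eq hy.symm
        exact (hUV x).mp (hx ▸ ⟨y₀, rfl⟩)
  have hiso : ∀ e : C, (PrimeSpectrum.basicOpen (α e) : Set (PrimeSpectrum A')) ⊆ UA →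
      (PrimeSpectrum.basicOpen (β e) : Set (PrimeSpectrum B)) ⊆ UB →
      IsIso (ρ ∣_ (PrimeSpectrum.basicOpen e)) := by
    intro e he1 he2
    have hbij : Function.Bijective (Localization.awayMap r e) := by
      have hA' := awayMap_bijective_of_isOpenImmersion a' (α e) he1
      have hB := awayMap_bijective_of_isOpenImmersion b (β e) he2
      have hA := awayMap_bijective_of_isOpenImmersion a (p (α e)) (fun x hx => (h1 x).mp (he1 hx))
      let H := h.away e
      let H₀ := h₀.away (r e)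
      have eα : α₀ (r e) = a' (α e) := RingHom.congr_fun hα e
      have eβ : β₀ (r e) = b (β e) := RingHom.congr_fun hβ e
      have ep : p₀ (α₀ (r e)) = a (p (α e)) := by rw [eα]; exact RingHom.congr_fun hp _
      let mA : Localization.Away (α e) →+* Localization.Away (α₀ (r e)) :=
        IsLocalization.Away.lift (α e) (g := (algebraMap A₀' _).comp a') (by
          rw [RingHom.comp_apply, ← eα]; exact IsLocalization.Away.algebraMap_isUnit _)
      let mB : Localization.Away (β e) →+* Localization.Away (β₀ (r e)) :=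
        IsLocalization.Away.lift (β e) (g := (algebraMap B₀ _).comp b) (by
          rw [RingHom.comp_apply, ← eβ]; exact IsLocalization.Away.algebraMap_isUnit _)
      let mQ : Localization.Away (p (α e)) →+* Localization.Away (p₀ (α₀ (r e))) :=
        IsLocalization.Away.lift (p (α e)) (g := (algebraMap A₀ _).comp a) (by
          rw [RingHom.comp_apply, ← ep]; exact IsLocalization.Away.algebraMap_isUnit _)
      have bij_of : ∀ {R S : Type u} [CommRing R] [CommRing S] (f : R →+* S) (x : R) (y : S) (hy : y = f x)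
          (hu : IsUnit (((algebraMap S (Localization.Away y)).comp f) x))
          (hb : Function.Bijective (Localization.awayMap f x)),
          Function.Bijective (IsLocalization.Away.lift (S := Localization.Away x) x hu) := by
        intro R S _ _ f x y hy hu hb
        subst hy
        have : IsLocalization.Away.lift (S := Localization.Away x) x hu = Localization.awayMap f x :=
          IsLocalization.ringHom_ext (Submonoid.powers x) (RingHom.ext fun z => by
            rw [RingHom.comp_apply, RingHom.comp_apply, IsLocalization.Away.lift_eq, awayMap_algebraMap]; rfl)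
        rw [this]; exact hb
      have bA : Function.Bijective mA := bij_of a' (α e) _ eα _ hA'
      have bB : Function.Bijective mB := bij_of b (β e) _ eβ _ hB
      have bQ : Function.Bijective mQ := bij_of a (p (α e)) _ ep _ hA
      have cα : ∀ z, Localization.awayMap α₀ (r e) (Localization.awayMap r e z) = mA (Localization.awayMap α e z) := by
        refine RingHom.congr_fun (f := (Localization.awayMap α₀ (r e)).comp (Localization.awayMap r e))
          (g := mA.comp (Localization.awayMap α e)) (IsLocalization.ringHom_ext (Submonoid.powers e) ?_)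
        ext z
        simp only [RingHom.comp_apply, awayMap_algebraMap, mA, IsLocalization.Away.lift_eq]
        exact congrArg _ (RingHom.congr_fun hα z)
      have cβ : ∀ z, Localization.awayMap β₀ (r e) (Localization.awayMap r e z) = mB (Localization.awayMap β e z) := by
        refine RingHom.congr_fun (f := (Localization.awayMap β₀ (r e)).comp (Localization.awayMap r e))
          (g := mB.comp (Localization.awayMap β e)) (IsLocalization.ringHom_ext (Submonoid.powers e) ?_)
        ext z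
        simp only [RingHom.comp_apply, awayMap_algebraMap, mB, IsLocalization.Away.lift_eq]
        exact congrArg _ (RingHom.congr_fun hβ z)
      have cp : ∀ z, mQ (Localization.awayMap p (α e) z) = Localization.awayMap p₀ (α₀ (r e)) (mA z) := by
        refine RingHom.congr_fun (f := mQ.comp (Localization.awayMap p (α e)))
          (g := (Localization.awayMap p₀ (α₀ (r e))).comp mA) (IsLocalization.ringHom_ext (Submonoid.powers (α e)) ?_)
        ext z
        simp only [RingHom.comp_apply, awayMap_algebraMap, mQ, mA, IsLocalization.Away.lift_eq]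
        exact congrArg _ (RingHom.congr_fun hp z).symm
      have cq : ∀ z, mQ (qAway h e z) = qAway h₀ (r e) (mB z) := by
        refine RingHom.congr_fun (f := mQ.comp (qAway h e))
          (g := (qAway h₀ (r e)).comp mB) (IsLocalization.ringHom_ext (Submonoid.powers (β e)) ?_)
        ext z
        simp only [RingHom.comp_apply, qAway_algebraMap, mQ, mB, IsLocalization.Away.lift_eq]
        exact congrArg _ (RingHom.congr_fun hq z).symm
      refine ⟨fun z z' hz => H.ext z z' (bA.1 ?_) (bB.1 ?_), fun w => ?_⟩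
      · rw [← cα, ← cα, hz]
      · rw [← cβ, ← cβ, hz]
      · obtain ⟨x, hx⟩ := bA.2 (Localization.awayMap α₀ (r e) w)
        obtain ⟨y, hy⟩ := bB.2 (Localization.awayMap β₀ (r e) w)
        obtain ⟨z, hz1, hz2⟩ := H.exists_of_eq y x (bQ.1 (by rw [cp, cq, hx, hy]; exact H₀.comm w))
        exact ⟨z, H₀.ext _ _ (by rw [cα, hz1, hx]) (by rw [cβ, hz2, hy])⟩
    refine ((MorphismProperty.isomorphisms Scheme).arrow_mk_iso_iff
      (SpecMapRestrictBasicOpenIso (CommRingCat.ofHom r) e)).mpr ?_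
    haveI : IsIso (CommRingCat.ofHom (Localization.awayMap r e)) := (ConcreteCategory.isIso_iff_bijective _).2 hbij
    exact inferInstanceAs (IsIso (Spec.map _))
  let O' : (Spec (CommRingCat.of C)).Opens := ⟨O, hO⟩
  haveI : IsIso (ρ ∣_ O') := by
    have hcov : ∀ P : O'.toScheme, ∃ e : C, P.1 ∈ PrimeSpectrum.basicOpen e ∧
        (PrimeSpectrum.basicOpen (α e) : Set (PrimeSpectrum A')) ⊆ UA ∧
        (PrimeSpectrum.basicOpen (β e) : Set (PrimeSpectrum B)) ⊆ UB :=
      fun P => h.exists_basic hUA hUB hUV P.2.1 P.2.2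
    choose e hPe he1 he2 using hcov
    refine IsZariskiLocalAtTarget.of_iSup_eq_top (P := MorphismProperty.isomorphisms Scheme)
      (fun P => O'.ι ⁻¹ᵁ PrimeSpectrum.basicOpen (e P)) ?_ (fun P => ?_)
    · rw [eq_top_iff]
      exact fun P _ => TopologicalSpace.Opens.mem_iSup.mpr ⟨P, hPe P⟩
    · rw [(MorphismProperty.isomorphisms Scheme).arrow_mk_iso_iff (morphismRestrictRestrict ρ O' _),
        show O'.ι ''ᵁ O'.ι ⁻¹ᵁ PrimeSpectrum.basicOpen (e P) = PrimeSpectrum.basicOpen (e P) by
          rw [Scheme.Hom.image_preimage_eq_opensRange_inf, Scheme.Opens.opensRange_ι, inf_eq_right]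
          exact hsubO _ (he1 P) (he2 P)]
      exact hiso _ (he1 P) (he2 P)
  have htop : ρ ⁻¹ᵁ O' = ⊤ := eq_top_iff.2 fun z _ => hrange ⟨z, rfl⟩
  haveI : IsIso (ρ ⁻¹ᵁ O').ι := by
    rw [htop]
    exact (isIso_iff_isOpenImmersion_and_surjective _).mpr ⟨inferInstance, ⟨fun z => ⟨⟨z, trivial⟩, rfl⟩⟩⟩
  have hρ : ρ = CategoryTheory.inv (ρ ⁻¹ᵁ O').ι ≫ (ρ ∣_ O') ≫ O'.ι := by
    rw [morphismRestrict_ι, IsIso.inv_hom_id_assoc]
  refine ⟨by rw [hρ]; infer_instance, hrange.antisymm fun P hP => ?_⟩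
  obtain ⟨w, hw⟩ := (ρ ∣_ O').surjective ⟨P, hP⟩
  exact ⟨w.1, ((morphismRestrict_base_coe ρ O' w).symm.trans (congrArg Subtype.val hw) :)⟩

end Morphism

end RingPO
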