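import Mathlib

universe u
set_option autoImplicit false
open AlgebraicGeometry CategoryTheory CategoryTheory.Limits TopologicalSpace Polynomial

namespace RingPO

theorem exists_complement_mem {A' B : Type u} [CommRing A'] [CommRing B] (φ : A' →+* B) (hφ : φ.IsIntegral)
    (p : Ideal A') [p.IsPrime] (g : B) :
    ∃ d : B, ∀ Q : Ideal B, Q.IsPrime → Q.comap φ = p → (d ∉ Q ↔ g ∈ Q) := by
  classical
  obtain ⟨P, hP, hPg⟩ := hφ g
  have hex : ∃ m, P.coeff m ∉ p :=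
    ⟨P.natDegree, by rw [hP.coeff_natDegree]; exact fun h => Ideal.IsPrime.ne_top inferInstance ((Ideal.eq_top_iff_one _).2 h)⟩
  let m := Nat.find hex
  refine ⟨(P /ₘ X ^ m).eval₂ φ g, fun Q hQ hQp => ?_⟩
  have hmem : ∀ a ∈ p, φ a ∈ Q := fun a ha => by rw [← hQp] at ha; exact ha
  have hsplit : (P %ₘ X ^ m) + X ^ m * (P /ₘ X ^ m) = P := modByMonic_add_div P (X ^ m)
  have hrem : (P %ₘ X ^ m).eval₂ φ g ∈ Q := by
    rw [eval₂_eq_sum_range]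
    refine sum_mem fun i hi => Ideal.mul_mem_right _ _ (hmem _ ?_)
    by_cases him : i < m
    · have h1 : (P %ₘ X ^ m).coeff i = P.coeff i := by
        have := congrArg (fun R : Polynomial A' => R.coeff i) hsplit
        simp only [coeff_add, coeff_X_pow_mul', if_neg (not_le.mpr him), add_zero] at this
        exact this
      rw [h1]; exact not_not.mp (Nat.find_min hex him)
    · have : (P %ₘ X ^ m).coeff i = 0 := by
        haveI : Nontrivial A' := nontrivial_of_ne 0 1 (fun h => Ideal.IsPrime.ne_top (I := p) inferInstance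
          ((Ideal.eq_top_iff_one _).2 (h ▸ zero_mem _)))
        refine coeff_eq_zero_of_degree_lt (lt_of_lt_of_le (degree_modByMonic_lt _ (monic_X_pow m)) ?_)
        rw [degree_X_pow]; exact_mod_cast not_lt.mp him
      rw [this]; exact zero_mem _
  have hprod : g ^ m * (P /ₘ X ^ m).eval₂ φ g ∈ Q := by
    have := congrArg (eval₂ φ g) hsplit
    rw [eval₂_add, eval₂_mul, eval₂_X_pow, hPg] at this
    rw [eq_neg_of_add_eq_zero_right this]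
    exact neg_mem hrem
  have h0 : φ (P.coeff m) ∉ Q := fun h => Nat.find_spec hex (hQp.le (Ideal.mem_comap.mpr h))
  have hc : g ∈ Q → ((P /ₘ X ^ m).eval₂ φ g ∉ Q) := by
    intro hg hd
    refine h0 ?_
    have hcoeff : (P /ₘ X ^ m).coeff 0 = P.coeff m := by
      have hh := congrArg (fun R : Polynomial A' => R.coeff m) hsplit
      simp only [coeff_add, coeff_X_pow_mul', le_refl, if_true, Nat.sub_self] at hh
      haveI : Nontrivial A' := nontrivial_of_ne 0 1 (fun h => Ideal.IsPrime.ne_top (I := p) inferInstance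
        ((Ideal.eq_top_iff_one _).2 (h ▸ zero_mem _)))
      have h2 : (P %ₘ X ^ m).coeff m = 0 :=
        coeff_eq_zero_of_degree_lt (lt_of_lt_of_le (degree_modByMonic_lt _ (monic_X_pow m)) (by rw [degree_X_pow]))
      simpa [h2] using hh
    rw [← hcoeff]
    have h3 := congrArg (eval₂ φ g) (X_mul_divX_add (P /ₘ X ^ m))
    rw [eval₂_add, eval₂_mul, eval₂_X, eval₂_C] at h3
    rw [← h3] at hd
    simpa using sub_mem hd (Ideal.mul_mem_right ((P /ₘ X ^ m).divX.eval₂ φ g) _ hg)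
  exact ⟨fun hd => (hQ.mem_or_mem hprod).elim (fun h => hQ.mem_of_pow_mem m h) (fun h => absurd h hd), hc⟩

/-- Ferrand's condition gives charts. -/
theorem exists_chart {X Y Z : Scheme.{u}} (i : Z ⟶ X) [IsClosedImmersion i] (j : Z ⟶ Y) [IsIntegralHom j] (y : Y)
    (h : ∃ U : X.Opens, IsAffineOpen U ∧ j ⁻¹' {y} ⊆ (i ⁻¹ᵁ U : Set Z)) :
    ∃ (U : X.Opens) (V : Y.Opens), IsAffineOpen U ∧ IsAffineOpen V ∧ y ∈ V ∧ i ⁻¹ᵁ U = j ⁻¹ᵁ V := by
  classical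
  obtain ⟨U₀, hU₀, hF⟩ := h
  have hC : IsClosed (j '' (↑(i ⁻¹ᵁ U₀) : Set Z)ᶜ) := j.isClosedMap _ (i ⁻¹ᵁ U₀).isOpen.isClosed_compl
  obtain ⟨_, ⟨V₀, hV₀, rfl⟩, hyV₀, hV₀sub⟩ := Y.isBasis_affineOpens.exists_subset_of_mem_open
    (show y ∈ (j '' (↑(i ⁻¹ᵁ U₀) : Set Z)ᶜ)ᶜ by
      rintro ⟨z, hz, hzy⟩; exact hz (hF hzy)) hC.isOpen_compl
  replace hV₀ : IsAffineOpen V₀ := hV₀
  let W₀ := j ⁻¹ᵁ V₀
  have hW₀ : IsAffineOpen W₀ := hV₀.preimage j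
  have hWZ : W₀ ≤ i ⁻¹ᵁ U₀ := fun z hz => by
    by_contra hn; exact hV₀sub hz ⟨z, hn, rfl⟩
  have hZ₀ : IsAffineOpen (i ⁻¹ᵁ U₀) := hU₀.preimage i
  let ρ : Γ(X, U₀) →+* Γ(Z, W₀) := (i.appLE U₀ W₀ hWZ).hom
  have hρ : ∀ f : Γ(X, U₀), Z.basicOpen (ρ f) = W₀ ⊓ i ⁻¹ᵁ X.basicOpen f := by
    intro f
    show Z.basicOpen ((i.app U₀ ≫ Z.presheaf.map (homOfLE hWZ).op) f) = _
    rw [CommRingCat.comp_apply, Scheme.basicOpen_res, Scheme.preimage_basicOpen]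
  have hex : ∀ q : ↥(j ⁻¹' {y}), ∃ f : Γ(X, U₀), q.1 ∈ i ⁻¹ᵁ X.basicOpen f ∧ i ⁻¹ᵁ X.basicOpen f ≤ W₀ := by
    rintro ⟨q, hq⟩
    obtain ⟨O, hO, hOW⟩ := i.isClosedEmbedding.isInducing.isOpen_iff.mp W₀.isOpen
    have hqW : q ∈ W₀ := by
      show j q ∈ V₀
      rw [show j q = y from hq]; exact hyV₀
    obtain ⟨f, hfO, hqf⟩ := hU₀.exists_basicOpen_le (V := ⟨O, hO⟩)
      ⟨i q, by show q ∈ i ⁻¹' O; rw [hOW]; exact hqW⟩ (hF hq)
    exact ⟨f, hqf, fun z hz => by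
      show z ∈ (W₀ : Set Z)
      rw [← hOW]; exact hfO hz⟩
  choose f hqf hfW using hex
  have hcpt : IsCompact (j ⁻¹' {y}) := by
    haveI : CompactSpace ↥(j ⁻¹' {y}) := (j.fiberHomeo y).compactSpace
    exact isCompact_iff_compactSpace.mpr inferInstance
  obtain ⟨t, ht⟩ := hcpt.elim_finite_subcover (fun q => (i ⁻¹ᵁ X.basicOpen (f q) : Set Z))
    (fun q => (i ⁻¹ᵁ X.basicOpen (f q)).isOpen) (fun z hz => Set.mem_iUnion.mpr ⟨⟨z, hz⟩, hqf _⟩)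
  let φ : Γ(Y, V₀) →+* Γ(Z, W₀) := (j.app V₀).hom
  have hφ : φ.IsIntegral := IsIntegralHom.isIntegral_app j _ hV₀
  let p := (hV₀.primeIdealOf ⟨y, hyV₀⟩).asIdeal
  have hcomap : ∀ z (hz : z ∈ W₀), j z = y → (hW₀.primeIdealOf ⟨z, hz⟩).asIdeal.comap φ = p := by
    intro z hz hzy
    subst hzy
    have h2 := congrArg PrimeSpectrum.asIdeal
      (IsAffineOpen.comap_primeIdealOf_appLE (f := j) V₀ hV₀ W₀ hW₀ le_rfl (x := z) hz)
    rw [show j.appLE V₀ W₀ le_rfl = j.app V₀ from (Scheme.Hom.app_eq_appLE _).symm] at h2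
    exact h2
  have hmem : ∀ z (hz : z ∈ W₀) (g : Γ(Z, W₀)), z ∈ Z.basicOpen g ↔ g ∉ (hW₀.primeIdealOf ⟨z, hz⟩).asIdeal := by
    intro z hz g
    rw [show z ∈ Z.basicOpen g ↔ hW₀.fromSpec (hW₀.primeIdealOf ⟨z, hz⟩) ∈ Z.basicOpen g by
      rw [hW₀.fromSpec_primeIdealOf]]
    show hW₀.primeIdealOf ⟨z, hz⟩ ∈ hW₀.fromSpec ⁻¹ᵁ Z.basicOpen g ↔ _
    rw [hW₀.fromSpec_preimage_basicOpen]; rfl
  choose d hd using fun k : ↥(j ⁻¹' {y}) => exists_complement_mem φ hφ p (ρ (f k))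
  obtain ⟨n, e, hen⟩ : ∃ (n : ℕ) (e : Fin n → ↥(j ⁻¹' {y})), j ⁻¹' {y} ⊆ ⋃ k, (i ⁻¹ᵁ X.basicOpen (f (e k)) : Set Z) := by
    refine ⟨t.card, fun k => (t.equivFin.symm k).1, fun z hz => ?_⟩
    obtain ⟨q, hq, hzq⟩ := Set.mem_iUnion₂.mp (ht hz)
    exact Set.mem_iUnion.mpr ⟨t.equivFin ⟨q, hq⟩, by simpa using hzq⟩
  let b : Fin n → Γ(Z, W₀) := fun k => ∏ l ∈ Finset.univ.filter (· < k), d (e l)
  have hlift : ∀ k, ∃ (N : ℕ) (c : Γ(X, U₀)), ρ c = ρ (f (e k)) ^ N * b k ∧ 0 < N ∧ X.basicOpen c ≤ X.basicOpen (f (e k)) := by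
    intro k
    set g := f (e k)
    have hDW : Z.basicOpen (ρ g) = i ⁻¹ᵁ X.basicOpen g := by rw [hρ, inf_eq_right]; exact hfW _
    have hle1 : Z.basicOpen (ρ g) ≤ i ⁻¹ᵁ U₀ := (Z.basicOpen_le _).trans hWZ
    have heq : Z.basicOpen (ρ g) = Z.basicOpen (i.app U₀ g) := by rw [hDW, Scheme.preimage_basicOpen]
    letI := (Z.presheaf.map (homOfLE hle1).op).hom.toAlgebra
    haveI := hZ₀.isLocalization_of_eq_basicOpen (i.app U₀ g) (homOfLE hle1) heq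
    let r := (Z.presheaf.map (homOfLE (Z.basicOpen_le (ρ g))).op).hom
    obtain ⟨n₀, c₀, hc₀⟩ := IsLocalization.Away.surj (i.app U₀ g) (r (b k))
    obtain ⟨c, rfl⟩ := i.app_surjective U₀ hU₀ c₀
    have hres : ∀ s, algebraMap Γ(Z, i ⁻¹ᵁ U₀) Γ(Z, Z.basicOpen (ρ g)) (i.app U₀ s) = r (ρ s) := by
      intro s
      show (i.app U₀ ≫ Z.presheaf.map (homOfLE hle1).op) s =
        (i.app U₀ ≫ Z.presheaf.map (homOfLE hWZ).op ≫ Z.presheaf.map (homOfLE (Z.basicOpen_le (ρ g))).op) s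
      rw [← Functor.map_comp]; rfl
    rw [hres, hres, ← map_pow, ← map_mul] at hc₀
    letI := r.toAlgebra
    haveI := hW₀.isLocalization_basicOpen (ρ g)
    obtain ⟨⟨_, m, rfl⟩, hm⟩ := (IsLocalization.eq_iff_exists (Submonoid.powers (ρ g)) Γ(Z, Z.basicOpen (ρ g))).mp hc₀
    refine ⟨m + 1 + n₀, g ^ (m + 1) * c, ?_, by omega, ?_⟩
    · rw [map_mul, map_pow]
      linear_combination -(ρ g) * hm
    · rw [Scheme.basicOpen_mul]
      exact inf_le_left.trans (by rw [pow_succ, Scheme.basicOpen_mul]; exact inf_le_right)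
  choose N c hc hN hcf using hlift
  have hsupp : i ⁻¹ᵁ X.basicOpen (∑ k, c k) ≤ W₀ := by
    intro z hz
    by_contra hn
    have hzU : i z ∈ U₀ := X.basicOpen_le _ hz
    have hz' : i z ∈ X.basicOpen (∑ k, c k) := hz
    rw [Scheme.mem_basicOpen _ _ _ hzU, map_sum] at hz'
    refine (IsLocalRing.mem_maximalIdeal _).mp (sum_mem fun k _ => ?_) hz'
    rw [IsLocalRing.mem_maximalIdeal, mem_nonunits_iff, ← Scheme.mem_basicOpen _ _ _ hzU]
    exact fun h => hn (hfW _ (hcf k h))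
  have hFsub : ∀ z, j z = y → z ∈ i ⁻¹ᵁ X.basicOpen (∑ k, c k) := by
    intro z hzy
    have hzW : z ∈ W₀ := by show j z ∈ V₀; rw [hzy]; exact hyV₀
    suffices z ∈ Z.basicOpen (ρ (∑ k, c k)) by rw [hρ] at this; exact this.2
    set Q := (hW₀.primeIdealOf ⟨z, hzW⟩).asIdeal
    rw [hmem z hzW, map_sum]
    have hQ : Q.comap φ = p := hcomap z hzW hzy
    have hd' : ∀ k, d k ∉ Q ↔ ρ (f k) ∈ Q := fun k => hd k Q (hW₀.primeIdealOf ⟨z, hzW⟩).2 hQ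
    have hnot : ∃ k, ρ (f (e k)) ∉ Q := by
      obtain ⟨k, hk⟩ := Set.mem_iUnion.mp (hen hzy)
      exact ⟨k, by rw [← hmem z hzW, hρ]; exact ⟨hzW, hk⟩⟩
    let k₀ := Fin.find _ hnot
    have hk₀ : ρ (f (e k₀)) ∉ Q := Fin.find_spec hnot
    intro hsum
    rw [← Finset.sum_erase_add _ _ (Finset.mem_univ k₀)] at hsum
    have hrest : ∑ k ∈ Finset.univ.erase k₀, ρ (c k) ∈ Q := by
      refine sum_mem fun k hk => ?_
      rw [hc]
      rcases lt_trichotomy k k₀ with hlt | heq | hgt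
      · exact Ideal.mul_mem_right _ _ (Ideal.pow_mem_of_mem _ (not_not.mp (Fin.find_min hnot hlt)) _ (hN k))
      · exact absurd heq (Finset.ne_of_mem_erase hk)
      · refine Ideal.mul_mem_left _ _ (Ideal.prod_mem _ (Finset.mem_filter.mpr ⟨Finset.mem_univ k₀, hgt⟩) ?_)
        by_contra hdd
        exact hk₀ ((hd' _).mp hdd)
    have h1 : ρ (c k₀) ∈ Q := by simpa using sub_mem hsum hrest
    rw [hc] at h1
    rcases (hW₀.primeIdealOf ⟨z, hzW⟩).2.mem_or_mem h1 with h2 | h2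
    · exact hk₀ ((hW₀.primeIdealOf ⟨z, hzW⟩).2.mem_of_pow_mem _ h2)
    · obtain ⟨l, hl, hl'⟩ := ((hW₀.primeIdealOf ⟨z, hzW⟩).2.prod_mem_iff).mp h2
      exact (hd' _).mpr (not_not.mp (Fin.find_min hnot (Finset.mem_filter.mp hl).2)) hl'
  set U₁ := X.basicOpen (∑ k, c k) with hU₁
  have hU₁a : IsAffineOpen U₁ := hU₀.basicOpen _
  have hC₁ : IsClosed (j '' (↑(i ⁻¹ᵁ U₁) : Set Z)ᶜ) := j.isClosedMap _ (i ⁻¹ᵁ U₁).isOpen.isClosed_compl
  obtain ⟨a, haC, hya⟩ := hV₀.exists_basicOpen_le (V := ⟨_, hC₁.isOpen_compl⟩)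
    ⟨y, by rintro ⟨z, hz, hzy⟩; exact hz (hFsub z hzy)⟩ hyV₀
  have hpre : j ⁻¹ᵁ Y.basicOpen a ≤ i ⁻¹ᵁ U₁ := fun z hz => by
    by_contra hn; exact haC hz ⟨z, hn, rfl⟩
  obtain ⟨g, hg⟩ := i.app_surjective U₁ hU₁a (Z.presheaf.map (homOfLE hsupp).op (j.app V₀ a))
  refine ⟨X.basicOpen g, Y.basicOpen a, hU₁a.basicOpen g, hV₀.basicOpen a, hya, ?_⟩
  rw [Scheme.preimage_basicOpen i g, Scheme.preimage_basicOpen j a, hg, Scheme.basicOpen_res, ← Scheme.preimage_basicOpen j a,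
    inf_eq_right]
  exact hpre

end RingPO
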