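import Mathlib
import Groth.Agent.RingPO.Affine
import Groth.Agent.RingPO.Open

universe u
set_option autoImplicit false
open AlgebraicGeometry CategoryTheory CategoryTheory.Limits TopologicalSpace Opposite

namespace RingPO

variable {X Y Z : Scheme.{u}} (i : Z ⟶ X) (j : Z ⟶ Y)

/-- Compatible affine charts for the pushout of `i` and `j`. -/
@[ext]
structure Chart : Type u where
  U : X.Opens
  V : Y.Opens
  hU : IsAffineOpen U
  hV : IsAffineOpen V
  eq : i ⁻¹ᵁ U = j ⁻¹ᵁ V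

variable {i j}

instance : PartialOrder (Chart i j) :=
  PartialOrder.lift (fun c => (c.U, c.V)) (fun c d h => Chart.ext (congrArg Prod.fst h) (congrArg Prod.snd h))

namespace Chart

variable (c : Chart i j)

/-- The leg to `Z` from `X`. -/
noncomputable def p : Γ(X, c.U) →+* Γ(Z, i ⁻¹ᵁ c.U) := (i.appLE c.U (i ⁻¹ᵁ c.U) le_rfl).hom
/-- The leg to `Z` from `Y`. -/
noncomputable def q : Γ(Y, c.V) →+* Γ(Z, i ⁻¹ᵁ c.U) := (j.appLE c.V (i ⁻¹ᵁ c.U) c.eq.le).hom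

/-- The ring of the chart. -/
noncomputable def sub : Subring (Γ(X, c.U) × Γ(Y, c.V)) :=
  RingHom.eqLocus (c.p.comp (RingHom.fst _ _)) (c.q.comp (RingHom.snd _ _))

noncomputable def α : c.sub →+* Γ(X, c.U) := (RingHom.fst _ _).comp c.sub.subtype
noncomputable def β : c.sub →+* Γ(Y, c.V) := (RingHom.snd _ _).comp c.sub.subtype

theorem isFibreProd [IsClosedImmersion i] : IsFibreProd c.p c.q c.α c.β where
  surj := by
    intro z
    obtain ⟨s, hs⟩ := i.app_surjective c.U c.hU z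
    refine ⟨s, ?_⟩
    show i.appLE c.U (i ⁻¹ᵁ c.U) le_rfl s = z
    rw [← Scheme.Hom.app_eq_appLE]; exact hs
  comm z := z.2
  ext z z' h1 h2 := Subtype.ext (Prod.ext h1 h2)
  exists_of_eq b a h := ⟨⟨(a, b), h⟩, rfl, rfl⟩

variable {c} {d : Chart i j}

theorem preimage_le (h : c ≤ d) : i ⁻¹ᵁ c.U ≤ i ⁻¹ᵁ d.U := i.preimage_mono h.1

noncomputable def mapX (h : c ≤ d) : Γ(X, d.U) →+* Γ(X, c.U) := (X.presheaf.map (homOfLE h.1).op).hom
noncomputable def mapY (h : c ≤ d) : Γ(Y, d.V) →+* Γ(Y, c.V) := (Y.presheaf.map (homOfLE h.2).op).hom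
noncomputable def mapZ (h : c ≤ d) : Γ(Z, i ⁻¹ᵁ d.U) →+* Γ(Z, i ⁻¹ᵁ c.U) :=
  (Z.presheaf.map (homOfLE (preimage_le h)).op).hom

theorem p_map (h : c ≤ d) : c.p.comp (mapX h) = (mapZ h).comp d.p := by
  show (X.presheaf.map (homOfLE h.1).op ≫ i.appLE c.U (i ⁻¹ᵁ c.U) le_rfl).hom =
    (i.appLE d.U (i ⁻¹ᵁ d.U) le_rfl ≫ Z.presheaf.map (homOfLE (preimage_le h)).op).hom
  rw [Scheme.Hom.map_appLE, Scheme.Hom.appLE_map]

theorem q_map (h : c ≤ d) : c.q.comp (mapY h) = (mapZ h).comp d.q := by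
  show (Y.presheaf.map (homOfLE h.2).op ≫ j.appLE c.V (i ⁻¹ᵁ c.U) c.eq.le).hom =
    (j.appLE d.V (i ⁻¹ᵁ d.U) d.eq.le ≫ Z.presheaf.map (homOfLE (preimage_le h)).op).hom
  rw [Scheme.Hom.map_appLE, Scheme.Hom.appLE_map]

/-- Restriction of chart rings. -/
noncomputable def r (h : c ≤ d) : d.sub →+* c.sub :=
  ((((mapX h).comp d.α).prod ((mapY h).comp d.β))).codRestrict c.sub (fun z => by
    show c.p (mapX h (d.α z)) = c.q (mapY h (d.β z))
    rw [← RingHom.comp_apply c.p, ← RingHom.comp_apply c.q, p_map, q_map]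
    exact congrArg (mapZ h) z.2)

theorem α_r (h : c ≤ d) : c.α.comp (r h) = (mapX h).comp d.α := rfl
theorem β_r (h : c ≤ d) : c.β.comp (r h) = (mapY h).comp d.β := rfl

theorem spec_res_fromSpec {W : Scheme.{u}} {U U' : W.Opens} (hU : IsAffineOpen U) (hU' : IsAffineOpen U')
    (h : U ≤ U') : Spec.map (CommRingCat.ofHom (W.presheaf.map (homOfLE h).op).hom) ≫ hU'.fromSpec = hU.fromSpec := by
  rw [CommRingCat.ofHom_hom]
  exact IsAffineOpen.map_fromSpec hU' hU (homOfLE h).op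

theorem isOpenImmersion_res {W : Scheme.{u}} {U U' : W.Opens} (hU : IsAffineOpen U) (hU' : IsAffineOpen U')
    (h : U ≤ U') : IsOpenImmersion (Spec.map (CommRingCat.ofHom (W.presheaf.map (homOfLE h).op).hom)) := by
  haveI : IsOpenImmersion (Spec.map (CommRingCat.ofHom (W.presheaf.map (homOfLE h).op).hom) ≫ hU'.fromSpec) := by
    rw [spec_res_fromSpec hU hU' h]; infer_instance
  exact IsOpenImmersion.of_comp _ hU'.fromSpec

theorem range_res {W : Scheme.{u}} {U U' : W.Opens} (hU : IsAffineOpen U) (hU' : IsAffineOpen U') (h : U ≤ U')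
    (x : Spec Γ(W, U')) :
    x ∈ Set.range (PrimeSpectrum.comap (W.presheaf.map (homOfLE h).op).hom) ↔ hU'.fromSpec x ∈ U := by
  constructor
  · rintro ⟨y, rfl⟩
    show (Spec.map (CommRingCat.ofHom (W.presheaf.map (homOfLE h).op).hom) ≫ hU'.fromSpec) y ∈ U
    rw [spec_res_fromSpec hU hU' h]
    exact hU.range_fromSpec.le ⟨y, rfl⟩
  · intro hx
    obtain ⟨y, hy⟩ := hU.range_fromSpec.ge hx
    refine ⟨y, hU'.fromSpec.isOpenEmbedding.injective ?_⟩
    show (Spec.map (CommRingCat.ofHom (W.presheaf.map (homOfLE h).op).hom) ≫ hU'.fromSpec) y = _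
    rw [spec_res_fromSpec hU hU' h]; exact hy

variable (c) in
theorem fromSpec_comap_p [IsClosedImmersion i] (x : Spec Γ(Z, i ⁻¹ᵁ c.U)) :
    c.hU.fromSpec (PrimeSpectrum.comap c.p x) = i ((c.hU.preimage i).fromSpec x) := by
  show (Spec.map (i.appLE c.U (i ⁻¹ᵁ c.U) le_rfl) ≫ c.hU.fromSpec) x = _
  rw [c.hU.SpecMap_appLE_fromSpec i (c.hU.preimage i)]; rfl

variable (c) in
theorem fromSpec_comap_q [IsClosedImmersion i] (x : Spec Γ(Z, i ⁻¹ᵁ c.U)) :
    c.hV.fromSpec (PrimeSpectrum.comap c.q x) = j ((c.hU.preimage i).fromSpec x) := by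
  show (Spec.map (j.appLE c.V (i ⁻¹ᵁ c.U) c.eq.le) ≫ c.hV.fromSpec) x = _
  rw [c.hV.SpecMap_appLE_fromSpec j (c.hU.preimage i)]; rfl

theorem r_isOpenImmersion [IsClosedImmersion i] (h : c ≤ d) :
    IsOpenImmersion (Spec.map (CommRingCat.ofHom (r h))) ∧
      Set.range (PrimeSpectrum.comap (r h)) = {P | (∀ y, PrimeSpectrum.comap d.α y = P → d.hU.fromSpec y ∈ c.U) ∧
        (∀ y, PrimeSpectrum.comap d.β y = P → d.hV.fromSpec y ∈ c.V)} := by
  haveI : IsOpenImmersion (Spec.map (CommRingCat.ofHom (mapX h))) := isOpenImmersion_res c.hU d.hU h.1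
  haveI : IsOpenImmersion (Spec.map (CommRingCat.ofHom (mapY h))) := isOpenImmersion_res c.hV d.hV h.2
  haveI : IsOpenImmersion (Spec.map (CommRingCat.ofHom (mapZ h))) :=
    isOpenImmersion_res (c.hU.preimage i) (d.hU.preimage i) (preimage_le h)
  obtain ⟨h1, h2⟩ := (IsFibreProd.isOpenImmersion_map d.isFibreProd c.isFibreProd (mapX h) (mapY h) (mapZ h) (r h)
    (p_map h) (q_map h) (α_r h) (β_r h)
    (fun x => ((range_res c.hU d.hU h.1 _).trans (by rw [fromSpec_comap_p]; exact Iff.rfl)).trans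
      (range_res (c.hU.preimage i) (d.hU.preimage i) (preimage_le h) x).symm)
    (fun x => ((range_res c.hV d.hV h.2 _).trans (by rw [fromSpec_comap_q, c.eq]; exact Iff.rfl)).trans
      (range_res (c.hU.preimage i) (d.hU.preimage i) (preimage_le h) x).symm))
  refine ⟨h1, h2.trans (Set.ext fun P => ?_)⟩
  exact and_congr (forall₂_congr fun y _ => range_res c.hU d.hU h.1 y) (forall₂_congr fun y _ => range_res c.hV d.hV h.2 y)

/-- The gluing diagram. -/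
noncomputable def diag : Chart i j ⥤ Scheme.{u} where
  obj c := Spec (CommRingCat.of c.sub)
  map {c d} h := Spec.map (CommRingCat.ofHom (r (leOfHom h)))
  map_id c := by
    rw [← Spec.map_id]; congr 1
    refine CommRingCat.hom_ext (RingHom.ext fun z => Subtype.ext (Prod.ext ?_ ?_))
    · show X.presheaf.map (homOfLE _).op z.1.1 = z.1.1
      rw [show (homOfLE (le_refl c.U)).op = 𝟙 (op c.U) from rfl, CategoryTheory.Functor.map_id]; rfl
    · show Y.presheaf.map (homOfLE _).op z.1.2 = z.1.2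
      rw [show (homOfLE (le_refl c.V)).op = 𝟙 (op c.V) from rfl, CategoryTheory.Functor.map_id]; rfl
  map_comp {c d e} h h' := by
    rw [← Spec.map_comp]; congr 1
    refine CommRingCat.hom_ext (RingHom.ext fun z => Subtype.ext (Prod.ext ?_ ?_))
    · exact (ConcreteCategory.congr_hom (X.presheaf.map_comp (homOfLE (leOfHom h').1).op (homOfLE (leOfHom h).1).op) z.1.1)
    · exact (ConcreteCategory.congr_hom (Y.presheaf.map_comp (homOfLE (leOfHom h').2).op (homOfLE (leOfHom h).2).op) z.1.2)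

instance [IsClosedImmersion i] {c d : Chart i j} (h : c ⟶ d) : IsOpenImmersion (diag.map h) :=
  (r_isOpenImmersion (leOfHom h)).1

variable (c) in
/-- Below a chart there is a chart inside given compatible opens. -/
theorem exists_sub [IsClosedImmersion i] (U' : X.Opens) (V' : Y.Opens) (hUV : i ⁻¹ᵁ U' = j ⁻¹ᵁ V')
    (P : PrimeSpectrum c.sub) (hPX : ∀ y, PrimeSpectrum.comap c.α y = P → c.hU.fromSpec y ∈ U')
    (hPY : ∀ y, PrimeSpectrum.comap c.β y = P → c.hV.fromSpec y ∈ V') :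
    ∃ (f : Chart i j) (h : f ≤ c), f.U ≤ U' ∧ f.V ≤ V' ∧ P ∈ Set.range (PrimeSpectrum.comap (r h)) := by
  obtain ⟨e, hPe, he1, he2⟩ := c.isFibreProd.exists_basic
    (U' := c.hU.fromSpec ⁻¹' (U' : Set X)) (V' := c.hV.fromSpec ⁻¹' (V' : Set Y))
    (U'.isOpen.preimage c.hU.fromSpec.continuous) (V'.isOpen.preimage c.hV.fromSpec.continuous)
    (fun x => by
      show c.hU.fromSpec (PrimeSpectrum.comap c.p x) ∈ U' ↔ c.hV.fromSpec (PrimeSpectrum.comap c.q x) ∈ V'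
      rw [fromSpec_comap_p, fromSpec_comap_q]
      show _ ∈ i ⁻¹ᵁ U' ↔ _ ∈ j ⁻¹ᵁ V'
      rw [hUV]) hPX hPY
  let f : Chart i j := ⟨X.basicOpen (c.α e), Y.basicOpen (c.β e), c.hU.basicOpen _, c.hV.basicOpen _, by
    have h1 : Z.basicOpen (c.p (c.α e)) = i ⁻¹ᵁ c.U ⊓ i ⁻¹ᵁ X.basicOpen (c.α e) := by
      show Z.basicOpen ((i.app c.U ≫ Z.presheaf.map (homOfLE le_rfl).op) (c.α e)) = _
      rw [CommRingCat.comp_apply, Scheme.basicOpen_res, Scheme.preimage_basicOpen]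
    have h2 : Z.basicOpen (c.q (c.β e)) = i ⁻¹ᵁ c.U ⊓ j ⁻¹ᵁ Y.basicOpen (c.β e) := by
      show Z.basicOpen ((j.app c.V ≫ Z.presheaf.map (homOfLE c.eq.le).op) (c.β e)) = _
      rw [CommRingCat.comp_apply, Scheme.basicOpen_res, Scheme.preimage_basicOpen]
    rw [show c.p (c.α e) = c.q (c.β e) from e.2, h2,
      inf_eq_right.mpr ((j.preimage_mono (Y.basicOpen_le _)).trans c.eq.ge),
      inf_eq_right.mpr (i.preimage_mono (X.basicOpen_le _))] at h1
    exact h1.symm⟩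
  have hle : f ≤ c := ⟨X.basicOpen_le _, Y.basicOpen_le _⟩
  have hbX : ∀ y : Spec Γ(X, c.U), c.hU.fromSpec y ∈ X.basicOpen (c.α e) ↔ y ∈ PrimeSpectrum.basicOpen (c.α e) :=
    fun y => by rw [← c.hU.fromSpec_preimage_basicOpen]; rfl
  have hbY : ∀ y : Spec Γ(Y, c.V), c.hV.fromSpec y ∈ Y.basicOpen (c.β e) ↔ y ∈ PrimeSpectrum.basicOpen (c.β e) :=
    fun y => by rw [← c.hV.fromSpec_preimage_basicOpen]; rfl
  refine ⟨f, hle, fun x hx => ?_, fun x hx => ?_, ?_⟩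
  · obtain ⟨y, rfl⟩ := c.hU.range_fromSpec.ge (X.basicOpen_le _ hx)
    exact he1 ((hbX y).mp hx)
  · obtain ⟨y, rfl⟩ := c.hV.range_fromSpec.ge (Y.basicOpen_le _ hx)
    exact he2 ((hbY y).mp hx)
  · rw [(r_isOpenImmersion hle).2]
    exact ⟨fun y hy => (hbX y).mpr (by subst hy; exact hPe), fun y hy => (hbY y).mpr (by subst hy; exact hPe)⟩

instance [IsClosedImmersion i] : ((diag (i := i) (j := j)) ⋙ Scheme.forget).IsLocallyDirected where
  cond {c d k} hck hdk xc xd heq := by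
    replace heq : diag.map hck xc = diag.map hdk xd := heq
    set P : PrimeSpectrum k.sub := diag.map hck xc
    have hc := (r_isOpenImmersion (leOfHom hck)).2.le (show P ∈ _ from ⟨xc, rfl⟩)
    have hd := (r_isOpenImmersion (leOfHom hdk)).2.le (show P ∈ _ from ⟨xd, heq.symm⟩)
    obtain ⟨f, hf, hfU, hfV, Q, hQ⟩ := k.exists_sub (c.U ⊓ d.U) (c.V ⊓ d.V)
      (by rw [Scheme.Hom.preimage_inf, Scheme.Hom.preimage_inf, c.eq, d.eq]) P
      (fun y hy => ⟨hc.1 y hy, hd.1 y hy⟩) (fun y hy => ⟨hc.2 y hy, hd.2 y hy⟩)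
    have hfc : f ≤ c := ⟨hfU.trans inf_le_left, hfV.trans inf_le_left⟩
    have hfd : f ≤ d := ⟨hfU.trans inf_le_right, hfV.trans inf_le_right⟩
    refine ⟨f, homOfLE hfc, homOfLE hfd, Q, ?_, ?_⟩
    · refine (diag.map hck).isOpenEmbedding.injective ?_
      show (diag.map (homOfLE hfc) ≫ diag.map hck) Q = P
      rw [← Functor.map_comp]; exact hQ
    · refine (diag.map hdk).isOpenEmbedding.injective ?_
      show (diag.map (homOfLE hfd) ≫ diag.map hdk) Q = diag.map hdk xd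
      rw [← Functor.map_comp]; exact hQ.trans heq

end Chart

variable (i j) [IsClosedImmersion i]

/-- The glued pushout. -/
noncomputable def glued : Scheme.{u} := colimit (Chart.diag (i := i) (j := j))

variable {i j}

/-- The chart inclusion. -/
noncomputable def Chart.ι (c : Chart i j) : Spec (CommRingCat.of c.sub) ⟶ glued i j := colimit.ι Chart.diag c

theorem Chart.r_ι {c d : Chart i j} (h : c ≤ d) : Spec.map (CommRingCat.ofHom (Chart.r h)) ≫ d.ι = c.ι :=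
  colimit.w Chart.diag (homOfLE h)

instance (c : Chart i j) : IsOpenImmersion c.ι :=
  inferInstanceAs (IsOpenImmersion (colimit.ι (Chart.diag (i := i) (j := j)) c))

/-- A chart mapped to `X`'s piece. -/
noncomputable def Chart.toX (c : Chart i j) : c.U.toScheme ⟶ glued i j :=
  c.U.toSpecΓ ≫ Spec.map (CommRingCat.ofHom c.α) ≫ c.ι

noncomputable def Chart.toY (c : Chart i j) : c.V.toScheme ⟶ glued i j :=
  c.V.toSpecΓ ≫ Spec.map (CommRingCat.ofHom c.β) ≫ c.ι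

theorem Chart.homOfLE_toX {c d : Chart i j} (h : c ≤ d) : X.homOfLE h.1 ≫ d.toX = c.toX := by
  rw [Chart.toX, Chart.toX, ← Scheme.Opens.toSpecΓ_SpecMap_presheaf_map_assoc, ← Chart.r_ι h,
    ← Spec.map_comp_assoc, ← Spec.map_comp_assoc]
  congr 3

theorem Chart.homOfLE_toY {c d : Chart i j} (h : c ≤ d) : Y.homOfLE h.2 ≫ d.toY = c.toY := by
  rw [Chart.toY, Chart.toY, ← Scheme.Opens.toSpecΓ_SpecMap_presheaf_map_assoc, ← Chart.r_ι h,
    ← Spec.map_comp_assoc, ← Spec.map_comp_assoc]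
  congr 3

theorem exists_chart_X (hY : ∀ y : Y, ∃ c : Chart i j, y ∈ c.V) (x : X) : ∃ c : Chart i j, x ∈ c.U := by
  by_cases hx : x ∈ Set.range i
  · obtain ⟨z, rfl⟩ := hx
    obtain ⟨c, hc⟩ := hY (j z)
    exact ⟨c, show z ∈ i ⁻¹ᵁ c.U by rw [c.eq]; exact hc⟩
  · obtain ⟨U, hU, hxU, hUs⟩ := exists_isAffineOpen_mem_and_subset (x := x)
      (U := ⟨_, i.isClosedEmbedding.isClosed_range.isOpen_compl⟩) hx
    refine ⟨⟨U, ⊥, hU, isAffineOpen_bot _, ?_⟩, hxU⟩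
    ext z
    exact ⟨fun hz => absurd ⟨z, rfl⟩ (hUs hz), fun hz => hz.elim⟩

theorem compat_X (hY : ∀ y : Y, ∃ c : Chart i j, y ∈ c.V) (c d : Chart i j) :
    pullback.fst c.U.ι d.U.ι ≫ c.toX = pullback.snd c.U.ι d.U.ι ≫ d.toX := by
  let m := pullback.fst c.U.ι d.U.ι ≫ c.U.ι
  refine Scheme.hom_ext_of_forall _ _ fun w => ?_
  have hxc : m w ∈ c.U := (pullback.fst c.U.ι d.U.ι w).2
  have hxd : m w ∈ d.U := by
    show (pullback.fst c.U.ι d.U.ι ≫ c.U.ι) w ∈ d.U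
    rw [pullback.condition]; exact (pullback.snd c.U.ι d.U.ι w).2
  obtain ⟨y₀, hy₀⟩ := c.hU.range_fromSpec.ge hxc
  obtain ⟨f, hf, hfU, hfV, Q, hQ⟩ := c.exists_sub (c.U ⊓ d.U) (c.V ⊓ d.V)
    (by rw [Scheme.Hom.preimage_inf, Scheme.Hom.preimage_inf, c.eq, d.eq]) (PrimeSpectrum.comap c.α y₀)
    (fun y hy => by
      refine ⟨c.hU.range_fromSpec.le ⟨y, rfl⟩, ?_⟩
      rcases c.isFibreProd.fib_or hy with rfl | ⟨x, x', rfl, hx', hxx⟩
      · rw [hy₀]; exact hxd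
      · rw [← hx', Chart.fromSpec_comap_p] at hy₀
        rw [Chart.fromSpec_comap_p]
        have h1 : j ((c.hU.preimage i).fromSpec x') ∈ d.V := by
          show _ ∈ j ⁻¹ᵁ d.V
          rw [← d.eq]; show i _ ∈ d.U; rw [hy₀]; exact hxd
        show _ ∈ i ⁻¹ᵁ d.U
        rw [d.eq]
        show j _ ∈ d.V
        rw [← Chart.fromSpec_comap_q, hxx, Chart.fromSpec_comap_q]; exact h1)
    (fun b hb => by
      refine ⟨c.hV.range_fromSpec.le ⟨b, rfl⟩, ?_⟩
      obtain ⟨x, hx, rfl⟩ := c.isFibreProd.exists_of_comap_eq hb.symm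
      rw [← hx, Chart.fromSpec_comap_p] at hy₀
      rw [Chart.fromSpec_comap_q]
      show _ ∈ j ⁻¹ᵁ d.V
      rw [← d.eq]; show i _ ∈ d.U; rw [hy₀]; exact hxd)
  have hfd : f ≤ d := ⟨hfU.trans inf_le_right, hfV.trans inf_le_right⟩
  have hxf : m w ∈ f.U := by
    rw [← hy₀]
    have := (Chart.r_isOpenImmersion hf).2.le ⟨Q, hQ⟩
    exact this.1 y₀ rfl
  refine ⟨m ⁻¹ᵁ f.U, hxf, ?_⟩
  let l := IsOpenImmersion.lift f.U.ι ((m ⁻¹ᵁ f.U).ι ≫ m) (by rintro _ ⟨v, rfl⟩; rw [Scheme.Opens.range_ι]; exact v.2)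
  have hl : l ≫ f.U.ι = (m ⁻¹ᵁ f.U).ι ≫ m := IsOpenImmersion.lift_fac _ _ _
  have h1 : (m ⁻¹ᵁ f.U).ι ≫ pullback.fst c.U.ι d.U.ι = l ≫ X.homOfLE hf.1 := by
    rw [← cancel_mono c.U.ι, Category.assoc, Category.assoc, Scheme.homOfLE_ι, hl]
  have h2 : (m ⁻¹ᵁ f.U).ι ≫ pullback.snd c.U.ι d.U.ι = l ≫ X.homOfLE hfd.1 := by
    rw [← cancel_mono d.U.ι, Category.assoc, Category.assoc, Scheme.homOfLE_ι, hl, ← pullback.condition]
  rw [reassoc_of% h1, reassoc_of% h2, Chart.homOfLE_toX hf, Chart.homOfLE_toX hfd]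

theorem compat_Y (c d : Chart i j) :
    pullback.fst c.V.ι d.V.ι ≫ c.toY = pullback.snd c.V.ι d.V.ι ≫ d.toY := by
  let m := pullback.fst c.V.ι d.V.ι ≫ c.V.ι
  refine Scheme.hom_ext_of_forall _ _ fun w => ?_
  have hxc : m w ∈ c.V := (pullback.fst c.V.ι d.V.ι w).2
  have hxd : m w ∈ d.V := by
    show (pullback.fst c.V.ι d.V.ι ≫ c.V.ι) w ∈ d.V
    rw [pullback.condition]; exact (pullback.snd c.V.ι d.V.ι w).2
  obtain ⟨y₀, hy₀⟩ := c.hV.range_fromSpec.ge hxc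
  obtain ⟨f, hf, hfU, hfV, Q, hQ⟩ := c.exists_sub (c.U ⊓ d.U) (c.V ⊓ d.V)
    (by rw [Scheme.Hom.preimage_inf, Scheme.Hom.preimage_inf, c.eq, d.eq]) (PrimeSpectrum.comap c.β y₀)
    (fun a ha => by
      refine ⟨c.hU.range_fromSpec.le ⟨a, rfl⟩, ?_⟩
      obtain ⟨x, rfl, hx⟩ := c.isFibreProd.exists_of_comap_eq ha
      rw [← hx, Chart.fromSpec_comap_q] at hy₀
      rw [Chart.fromSpec_comap_p]
      show _ ∈ i ⁻¹ᵁ d.U
      rw [d.eq]; show j _ ∈ d.V; rw [hy₀]; exact hxd)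
    (fun b hb => by
      rw [c.isFibreProd.comap_beta_injective hb, hy₀]; exact ⟨hxc, hxd⟩)
  have hfd : f ≤ d := ⟨hfU.trans inf_le_right, hfV.trans inf_le_right⟩
  have hxf : m w ∈ f.V := by
    rw [← hy₀]
    exact ((Chart.r_isOpenImmersion hf).2.le ⟨Q, hQ⟩).2 y₀ rfl
  refine ⟨m ⁻¹ᵁ f.V, hxf, ?_⟩
  let l := IsOpenImmersion.lift f.V.ι ((m ⁻¹ᵁ f.V).ι ≫ m) (by rintro _ ⟨v, rfl⟩; rw [Scheme.Opens.range_ι]; exact v.2)
  have hl : l ≫ f.V.ι = (m ⁻¹ᵁ f.V).ι ≫ m := IsOpenImmersion.lift_fac _ _ _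
  have h1 : (m ⁻¹ᵁ f.V).ι ≫ pullback.fst c.V.ι d.V.ι = l ≫ Y.homOfLE hf.2 := by
    rw [← cancel_mono c.V.ι, Category.assoc, Category.assoc, Scheme.homOfLE_ι, hl]
  have h2 : (m ⁻¹ᵁ f.V).ι ≫ pullback.snd c.V.ι d.V.ι = l ≫ Y.homOfLE hfd.2 := by
    rw [← cancel_mono d.V.ι, Category.assoc, Category.assoc, Scheme.homOfLE_ι, hl, ← pullback.condition]
  rw [reassoc_of% h1, reassoc_of% h2, Chart.homOfLE_toY hf, Chart.homOfLE_toY hfd]

/-- The cover of `X` by charts. -/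
noncomputable def coverX (hY : ∀ y : Y, ∃ c : Chart i j, y ∈ c.V) : X.OpenCover :=
  X.openCoverOfIsOpenCover (fun c : Chart i j => c.U) (eq_top_iff.2 fun x _ => Opens.mem_iSup.mpr (exists_chart_X hY x))

noncomputable def coverY (hY : ∀ y : Y, ∃ c : Chart i j, y ∈ c.V) : Y.OpenCover :=
  Y.openCoverOfIsOpenCover (fun c : Chart i j => c.V) (eq_top_iff.2 fun y _ => Opens.mem_iSup.mpr (hY y))

noncomputable def inX (hY : ∀ y : Y, ∃ c : Chart i j, y ∈ c.V) : X ⟶ glued i j :=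
  (coverX hY).glueMorphisms (fun c => c.toX) (fun c d => compat_X hY c d)

noncomputable def inY (hY : ∀ y : Y, ∃ c : Chart i j, y ∈ c.V) : Y ⟶ glued i j :=
  (coverY hY).glueMorphisms (fun c => c.toY) (fun c d => compat_Y c d)

theorem ι_inX (hY : ∀ y : Y, ∃ c : Chart i j, y ∈ c.V) (c : Chart i j) : c.U.ι ≫ inX hY = c.toX :=
  Scheme.Cover.ι_glueMorphisms (coverX hY) _ _ c

theorem ι_inY (hY : ∀ y : Y, ∃ c : Chart i j, y ∈ c.V) (c : Chart i j) : c.V.ι ≫ inY hY = c.toY :=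
  Scheme.Cover.ι_glueMorphisms (coverY hY) _ _ c

theorem fromSpec_inX (hY : ∀ y : Y, ∃ c : Chart i j, y ∈ c.V) (c : Chart i j) :
    c.hU.fromSpec ≫ inX hY = Spec.map (CommRingCat.ofHom c.α) ≫ c.ι := by
  rw [← cancel_epi c.hU.isoSpec.hom, IsAffineOpen.isoSpec_hom, c.hU.toSpecΓ_fromSpec_assoc, ι_inX]; rfl

theorem fromSpec_inY (hY : ∀ y : Y, ∃ c : Chart i j, y ∈ c.V) (c : Chart i j) :
    c.hV.fromSpec ≫ inY hY = Spec.map (CommRingCat.ofHom c.β) ≫ c.ι := by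
  rw [← cancel_epi c.hV.isoSpec.hom, IsAffineOpen.isoSpec_hom, c.hV.toSpecΓ_fromSpec_assoc, ι_inY]; rfl

theorem condition (hY : ∀ y : Y, ∃ c : Chart i j, y ∈ c.V) : i ≫ inX hY = j ≫ inY hY := by
  refine Scheme.hom_ext_of_forall _ _ fun z => ?_
  obtain ⟨c, hc⟩ := hY (j z)
  refine ⟨i ⁻¹ᵁ c.U, show z ∈ i ⁻¹ᵁ c.U by rw [c.eq]; exact hc, ?_⟩
  have hZ := c.hU.preimage i
  haveI : Epi (i ⁻¹ᵁ c.U).toSpecΓ := by
    haveI : IsIso (i ⁻¹ᵁ c.U).toSpecΓ := hZ.isoSpec_hom ▸ inferInstance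
    infer_instance
  rw [← hZ.toSpecΓ_fromSpec, Category.assoc, Category.assoc]
  congr 1
  rw [← c.hU.SpecMap_appLE_fromSpec_assoc i hZ le_rfl, ← c.hV.SpecMap_appLE_fromSpec_assoc j hZ c.eq.le,
    fromSpec_inX, fromSpec_inY, ← Spec.map_comp_assoc, ← Spec.map_comp_assoc]
  congr 2
  exact CommRingCat.hom_ext (RingHom.ext fun w => w.2)

theorem glued_hom_ext (hY : ∀ y : Y, ∃ c : Chart i j, y ∈ c.V) {T : Scheme.{u}} {k k' : glued i j ⟶ T}
    (h1 : inX hY ≫ k = inX hY ≫ k') (h2 : inY hY ≫ k = inY hY ≫ k') : k = k' := by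
  refine colimit.hom_ext fun c => c.isFibreProd.hom_ext ?_ ?_
  · show Spec.map (CommRingCat.ofHom c.α) ≫ c.ι ≫ k = Spec.map (CommRingCat.ofHom c.α) ≫ c.ι ≫ k'
    rw [← reassoc_of% fromSpec_inX hY c, ← reassoc_of% fromSpec_inX hY c, h1]
  · show Spec.map (CommRingCat.ofHom c.β) ≫ c.ι ≫ k = Spec.map (CommRingCat.ofHom c.β) ≫ c.ι ≫ k'
    rw [← reassoc_of% fromSpec_inY hY c, ← reassoc_of% fromSpec_inY hY c, h2]

theorem glued_desc (hY : ∀ y : Y, ∃ c : Chart i j, y ∈ c.V) {T : Scheme.{u}} (g₁ : X ⟶ T) (g₂ : Y ⟶ T)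
    (hg : i ≫ g₁ = j ≫ g₂) : ∃ k : glued i j ⟶ T, inX hY ≫ k = g₁ ∧ inY hY ≫ k = g₂ := by
  have hloc : ∀ c : Chart i j, ∃ k : Spec (CommRingCat.of c.sub) ⟶ T,
      Spec.map (CommRingCat.ofHom c.α) ≫ k = c.hU.fromSpec ≫ g₁ ∧
      Spec.map (CommRingCat.ofHom c.β) ≫ k = c.hV.fromSpec ≫ g₂ := fun c =>
    c.isFibreProd.exists_desc _ _ (by
      show Spec.map (i.appLE c.U (i ⁻¹ᵁ c.U) le_rfl) ≫ c.hU.fromSpec ≫ g₁ =
        Spec.map (j.appLE c.V (i ⁻¹ᵁ c.U) c.eq.le) ≫ c.hV.fromSpec ≫ g₂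
      rw [c.hU.SpecMap_appLE_fromSpec_assoc i (c.hU.preimage i), c.hV.SpecMap_appLE_fromSpec_assoc j (c.hU.preimage i), hg])
  choose k hk1 hk2 using hloc
  let co : Cocone (Chart.diag (i := i) (j := j)) :=
    { pt := T
      ι := { app := fun c => k c
             naturality := fun c d h => by
              show Spec.map (CommRingCat.ofHom (Chart.r (leOfHom h))) ≫ k d = k c ≫ 𝟙 T
              rw [Category.comp_id]
              refine c.isFibreProd.hom_ext ?_ ?_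
              · rw [hk1, ← Spec.map_comp_assoc, ← CommRingCat.ofHom_comp, Chart.α_r, CommRingCat.ofHom_comp,
                  Spec.map_comp_assoc, hk1, ← Category.assoc]
                congr 1
                exact Chart.spec_res_fromSpec c.hU d.hU (leOfHom h).1
              · rw [hk2, ← Spec.map_comp_assoc, ← CommRingCat.ofHom_comp, Chart.β_r, CommRingCat.ofHom_comp,
                  Spec.map_comp_assoc, hk2, ← Category.assoc]
                congr 1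
                exact Chart.spec_res_fromSpec c.hV d.hV (leOfHom h).2 } }
  have hco : ∀ c : Chart i j, c.ι ≫ colimit.desc Chart.diag co = k c := fun c => colimit.ι_desc co c
  refine ⟨colimit.desc Chart.diag co, ?_, ?_⟩
  · refine Scheme.Cover.hom_ext (coverX hY) _ _ fun c => ?_
    show c.U.ι ≫ inX hY ≫ _ = c.U.ι ≫ g₁
    rw [← Category.assoc, ι_inX, Chart.toX, Category.assoc, Category.assoc, hco, hk1, c.hU.toSpecΓ_fromSpec_assoc]
  · refine Scheme.Cover.hom_ext (coverY hY) _ _ fun c => ?_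
    show c.V.ι ≫ inY hY ≫ _ = c.V.ι ≫ g₂
    rw [← Category.assoc, ι_inY, Chart.toY, Category.assoc, Category.assoc, hco, hk2, c.hV.toSpecΓ_fromSpec_assoc]

theorem isPushout_glued (hY : ∀ y : Y, ∃ c : Chart i j, y ∈ c.V) : IsPushout i j (inX hY) (inY hY) := by
  choose d hd1 hd2 using fun s : PushoutCocone i j => glued_desc hY s.inl s.inr s.condition
  exact ⟨⟨condition hY⟩, ⟨PushoutCocone.IsColimit.mk _ d hd1 hd2
    (fun s m hm1 hm2 => glued_hom_ext hY (hm1.trans (hd1 s).symm) (hm2.trans (hd2 s).symm))⟩⟩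

theorem preimage_ι_X (hY : ∀ y : Y, ∃ c : Chart i j, y ∈ c.V) (c : Chart i j) :
    inX hY ⁻¹ᵁ c.ι.opensRange = c.U := by
  ext x
  constructor
  · rintro ⟨P, hP⟩
    obtain ⟨d, hxd⟩ := exists_chart_X hY x
    obtain ⟨y, rfl⟩ := d.hU.range_fromSpec.ge hxd
    have h1 : inX hY (d.hU.fromSpec y) = d.ι (PrimeSpectrum.comap d.α y) := congr($(fromSpec_inX hY d) y)
    obtain ⟨f, fc, fd, Q, -, hQd⟩ := (Scheme.IsLocallyDirected.ι_eq_ι_iff (Chart.diag (i := i) (j := j))).mp (hP.trans h1)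
    exact (leOfHom fc).1 (((Chart.r_isOpenImmersion (leOfHom fd)).2.le ⟨Q, hQd⟩).1 y rfl)
  · intro hx
    obtain ⟨y, rfl⟩ := c.hU.range_fromSpec.ge hx
    exact ⟨PrimeSpectrum.comap c.α y, (congr($(fromSpec_inX hY c) y)).symm⟩

theorem preimage_ι_Y (hY : ∀ y : Y, ∃ c : Chart i j, y ∈ c.V) (c : Chart i j) :
    inY hY ⁻¹ᵁ c.ι.opensRange = c.V := by
  ext x
  constructor
  · rintro ⟨P, hP⟩
    obtain ⟨d, hxd⟩ := hY x
    obtain ⟨y, rfl⟩ := d.hV.range_fromSpec.ge hxd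
    have h1 : inY hY (d.hV.fromSpec y) = d.ι (PrimeSpectrum.comap d.β y) := congr($(fromSpec_inY hY d) y)
    obtain ⟨f, fc, fd, Q, -, hQd⟩ := (Scheme.IsLocallyDirected.ι_eq_ι_iff (Chart.diag (i := i) (j := j))).mp (hP.trans h1)
    exact (leOfHom fc).2 (((Chart.r_isOpenImmersion (leOfHom fd)).2.le ⟨Q, hQd⟩).2 y rfl)
  · intro hx
    obtain ⟨y, rfl⟩ := c.hV.range_fromSpec.ge hx
    exact ⟨PrimeSpectrum.comap c.β y, (congr($(fromSpec_inY hY c) y)).symm⟩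

/-- Every pushout along a closed immersion with charts has affine charts which are spectra of fibre products. -/
theorem exists_fibreProd_chart {P : Scheme.{u}} {a : X ⟶ P} {b : Y ⟶ P} (h : IsPushout i j a b)
    (hY : ∀ y : Y, ∃ c : Chart i j, y ∈ c.V) :
    ∃ φ : ∀ c : Chart i j, Spec (CommRingCat.of c.sub) ⟶ P,
      (∀ c, IsOpenImmersion (φ c)) ∧ (∀ x, ∃ c, x ∈ Set.range (φ c)) ∧
      (∀ c, c.hU.fromSpec ≫ a = Spec.map (CommRingCat.ofHom c.α) ≫ φ c) ∧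
      (∀ c, c.hV.fromSpec ≫ b = Spec.map (CommRingCat.ofHom c.β) ≫ φ c) ∧
      (∀ c, a ⁻¹' Set.range (φ c) = (c.U : Set X)) ∧ (∀ c, b ⁻¹' Set.range (φ c) = (c.V : Set Y)) := by
  let e := (isPushout_glued hY).isoIsPushout X Y h
  have ea : inX hY ≫ e.hom = a := (isPushout_glued hY).inl_isoIsPushout_hom X Y h
  have eb : inY hY ≫ e.hom = b := (isPushout_glued hY).inr_isoIsPushout_hom X Y h
  refine ⟨fun c => c.ι ≫ e.hom, fun c => inferInstance, fun x => ?_, fun c => ?_, fun c => ?_, fun c => ?_, fun c => ?_⟩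
  · obtain ⟨c, y, hy⟩ := Scheme.IsLocallyDirected.ι_jointly_surjective (Chart.diag (i := i) (j := j)) (e.inv x)
    exact ⟨c, y, by rw [show (c.ι ≫ e.hom) y = e.hom (c.ι y) from rfl, show c.ι y = e.inv x from hy]; exact congr($(e.inv_hom_id) x)⟩
  · rw [← ea, ← Category.assoc, fromSpec_inX, Category.assoc]
  · rw [← eb, ← Category.assoc, fromSpec_inY, Category.assoc]
  · rw [← ea]
    refine Eq.trans ?_ (congrArg SetLike.coe (preimage_ι_X hY c))
    ext x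
    show (inX hY ≫ e.hom) x ∈ Set.range (c.ι ≫ e.hom) ↔ inX hY x ∈ Set.range c.ι
    rw [Scheme.Hom.comp_base, TopCat.coe_comp, Set.range_comp]
    exact (e.hom.homeomorph.injective.mem_set_image)
  · rw [← eb]
    refine Eq.trans ?_ (congrArg SetLike.coe (preimage_ι_Y hY c))
    ext x
    show (inY hY ≫ e.hom) x ∈ Set.range (c.ι ≫ e.hom) ↔ inY hY x ∈ Set.range c.ι
    rw [Scheme.Hom.comp_base, TopCat.coe_comp, Set.range_comp]
    exact (e.hom.homeomorph.injective.mem_set_image)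

end RingPO
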