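import Mathlib
import Groth.Agent.RingPO.Glue
import Groth.Agent.RingPO.Charts
import Groth.Agent.MorLib.Thick.Affine

universe u
set_option autoImplicit false
open AlgebraicGeometry CategoryTheory CategoryTheory.Limits TopologicalSpace Opposite

namespace RingPO

variable {X Y Z P : Scheme.{u}} {i : Z ⟶ X} {j : Z ⟶ Y} {a : X ⟶ P} {b : Y ⟶ P}

theorem chart_of_integral [IsClosedImmersion i] [IsIntegralHom j]
    (h : ∀ y : Y, ∃ U : X.Opens, IsAffineOpen U ∧ j ⁻¹' {y} ⊆ (i ⁻¹ᵁ U : Set Z)) (y : Y) :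
    ∃ c : Chart i j, y ∈ c.V := by
  obtain ⟨U, V, hU, hV, hy, he⟩ := exists_chart i j y (h y)
  exact ⟨⟨U, V, hU, hV, he⟩, hy⟩

theorem chart_of_closedImmersion [IsClosedImmersion i] [IsClosedImmersion j] (y : Y) :
    ∃ c : Chart i j, y ∈ c.V := by
  refine chart_of_integral (fun y => ?_) y
  rcases (j ⁻¹' {y}).eq_empty_or_nonempty with h | ⟨z, hz⟩
  · exact ⟨⊥, isAffineOpen_bot _, by rw [h]; exact Set.empty_subset _⟩
  · obtain ⟨U, hU, hzU, -⟩ := exists_isAffineOpen_mem_and_subset (x := i z) (U := (⊤ : X.Opens)) (by simp)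
    refine ⟨U, hU, fun w hw => ?_⟩
    rw [show w = z from j.isClosedEmbedding.injective (hw.trans hz.symm)]; exact hzU

theorem chart_of_thickening [IsClosedImmersion i] (hi : Function.Surjective i) [IsAffineHom j] (y : Y) :
    ∃ c : Chart i j, y ∈ c.V := by
  obtain ⟨V, hV, hyV, -⟩ := exists_isAffineOpen_mem_and_subset (x := y) (U := (⊤ : Y.Opens)) (by simp)
  obtain ⟨O, hO, hOV⟩ := i.isClosedEmbedding.isInducing.isOpen_iff.mp (j ⁻¹ᵁ V).isOpen
  let U : X.Opens := ⟨O, hO⟩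
  have he : i ⁻¹ᵁ U = j ⁻¹ᵁ V := SetLike.coe_injective hOV
  haveI : IsAffine (i ⁻¹ᵁ U : Scheme.{u}) := by rw [he]; exact hV.preimage j
  haveI : IsAffine U.toScheme := Groth.Agent.MorLib.Thick.isAffine_of_thickening (i ∣_ U) (fun x => by
    obtain ⟨z, hz⟩ := hi x.1
    exact ⟨⟨z, show i z ∈ U by rw [hz]; exact x.2⟩, Subtype.ext ((morphismRestrict_base_coe i U _).trans hz)⟩)
  exact ⟨⟨U, V, ‹_›, hV, he⟩, hyV⟩

theorem chart_of_affineHom (h : i ≫ a = j ≫ b) [IsAffineHom a] [IsAffineHom b] (y : Y) :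
    ∃ c : Chart i j, y ∈ c.V := by
  obtain ⟨O, hO, hyO, -⟩ := exists_isAffineOpen_mem_and_subset (x := b y) (U := (⊤ : P.Opens)) (by simp)
  exact ⟨⟨a ⁻¹ᵁ O, b ⁻¹ᵁ O, hO.preimage a, hO.preimage b, by
    rw [← Scheme.Hom.comp_preimage, ← Scheme.Hom.comp_preimage, h]⟩, hyO⟩

theorem isPullback_chart {S W U : Scheme.{u}} {g : W ⟶ S} {e : U ⟶ W} [IsOpenImmersion e] {K : Scheme.{u}}
    {φ : K ⟶ S} [IsOpenImmersion φ] {γ : U ⟶ K} (hw : e ≫ g = γ ≫ φ)
    (hr : g ⁻¹' Set.range φ = Set.range e) : IsPullback e γ g φ :=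
  (IsOpenImmersion.isPullback γ e φ g hw (SetLike.coe_injective hr)).flip

theorem of_chart {Q : MorphismProperty Scheme.{u}} [IsZariskiLocalAtTarget Q] {W S : Scheme.{u}} (g : W ⟶ S)
    {ι : Type u} (K U : ι → Scheme.{u}) (φ : ∀ c, K c ⟶ S) [∀ c, IsOpenImmersion (φ c)]
    (hcov : ∀ x, ∃ c, x ∈ Set.range (φ c)) (e : ∀ c, U c ⟶ W) (γ : ∀ c, U c ⟶ K c)
    (hp : ∀ c, IsPullback (e c) (γ c) g (φ c)) (hγ : ∀ c, Q (γ c)) : Q g := by
  let 𝒰 : S.OpenCover :=
    { I₀ := ι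
      X := K
      f := φ
      mem₀ := by
        rw [Scheme.presieve₀_mem_precoverage_iff]
        exact ⟨hcov, inferInstance⟩ }
  refine IsZariskiLocalAtTarget.of_openCover 𝒰 fun c => ?_
  show Q (pullback.snd g (φ c))
  rw [← (hp c).isoPullback_inv_snd, MorphismProperty.cancel_left_of_respectsIso Q]
  exact hγ c

variable [IsClosedImmersion i]

theorem prop_inr {Q : MorphismProperty Scheme.{u}} [IsZariskiLocalAtTarget Q] (h : IsPushout i j a b)
    (hY : ∀ y : Y, ∃ c : Chart i j, y ∈ c.V) (hQ : ∀ c : Chart i j, Q (Spec.map (CommRingCat.ofHom c.β))) : Q b := by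
  obtain ⟨φ, hφ, hcov, h1, h2, h3, h4⟩ := exists_fibreProd_chart h hY
  haveI := hφ
  exact of_chart b _ _ φ hcov (fun c => c.hV.fromSpec) (fun c => Spec.map (CommRingCat.ofHom c.β))
    (fun c => isPullback_chart (h2 c) ((h4 c).trans c.hV.range_fromSpec.symm)) hQ

theorem prop_inl {Q : MorphismProperty Scheme.{u}} [IsZariskiLocalAtTarget Q] (h : IsPushout i j a b)
    (hY : ∀ y : Y, ∃ c : Chart i j, y ∈ c.V) (hQ : ∀ c : Chart i j, Q (Spec.map (CommRingCat.ofHom c.α))) : Q a := by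
  obtain ⟨φ, hφ, hcov, h1, h2, h3, h4⟩ := exists_fibreProd_chart h hY
  haveI := hφ
  exact of_chart a _ _ φ hcov (fun c => c.hU.fromSpec) (fun c => Spec.map (CommRingCat.ofHom c.α))
    (fun c => isPullback_chart (h1 c) ((h3 c).trans c.hU.range_fromSpec.symm)) hQ

theorem isClosedImmersion_inr (h : IsPushout i j a b) (hY : ∀ y : Y, ∃ c : Chart i j, y ∈ c.V) :
    IsClosedImmersion b :=
  prop_inr (Q := @IsClosedImmersion) h hY (fun c =>
    IsClosedImmersion.spec_of_surjective _ c.isFibreProd.beta_surjective)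

theorem isAffineHom_inl (h : IsPushout i j a b) (hY : ∀ y : Y, ∃ c : Chart i j, y ∈ c.V) : IsAffineHom a :=
  prop_inl (Q := @IsAffineHom) h hY (fun _ => inferInstance)

theorem isIntegral_alpha {A A' B C : Type u} [CommRing A] [CommRing A'] [CommRing B] [CommRing C]
    {p : A' →+* A} {q : B →+* A} {α : C →+* A'} {β : C →+* B} (h : IsFibreProd p q α β) (hq : q.IsIntegral) :
    α.IsIntegral := by
  intro x
  obtain ⟨R, hRm, hker⟩ : ∃ R : Polynomial C, R.Monic ∧ p (R.eval₂ α x) = 0 := by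
    rcases subsingleton_or_nontrivial B with hB | hB
    · refine ⟨1, Polynomial.monic_one, ?_⟩
      rw [Polynomial.eval₂_one, map_one, ← map_one q, Subsingleton.elim (1 : B) 0, map_zero]
    obtain ⟨P, hP, hPx⟩ := hq (p x)
    obtain ⟨R, hR, -, hRm⟩ := Polynomial.lifts_and_degree_eq_and_monic
      ((Polynomial.lifts_iff_coeff_lifts _).mpr (fun n => h.beta_surjective (P.coeff n))) hP
    refine ⟨R, hRm, ?_⟩
    rw [Polynomial.hom_eval₂, show p.comp α = q.comp β from RingHom.ext h.comm, ← Polynomial.eval₂_map, hR, hPx]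
  rcases subsingleton_or_nontrivial C with hC | hC
  · exact ⟨Polynomial.X, Polynomial.monic_X, by
      rw [Polynomial.eval₂_X]
      have : (1 : A') = 0 := by rw [← map_one α, Subsingleton.elim (1 : C) 0, map_zero]
      rw [← mul_one x, this, mul_zero]⟩
  obtain ⟨z', hz', -⟩ := h.exists_of_eq 0 (x * R.eval₂ α x) (by rw [map_mul, hker, mul_zero, map_zero])
  refine ⟨Polynomial.X * R - Polynomial.C z', ?_, ?_⟩
  · refine (Polynomial.monic_X.mul hRm).sub_of_left (lt_of_le_of_lt Polynomial.degree_C_le ?_)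
    rw [hRm.degree_mul, Polynomial.degree_X, Polynomial.degree_eq_natDegree hRm.ne_zero, ← Nat.cast_one, ← Nat.cast_add]
    exact_mod_cast Nat.add_pos_left one_pos _
  · rw [Polynomial.eval₂_sub, Polynomial.eval₂_C, Polynomial.eval₂_mul, Polynomial.eval₂_X, hz', sub_self]

theorem isIntegralHom_inl [IsIntegralHom j] (h : IsPushout i j a b) (hY : ∀ y : Y, ∃ c : Chart i j, y ∈ c.V) :
    IsIntegralHom a :=
  prop_inl (Q := @IsIntegralHom) h hY (fun c => (IsIntegralHom.SpecMap_iff).mpr (isIntegral_alpha c.isFibreProd (by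
    have := IsIntegralHom.isIntegral_app j c.V c.hV
    show (j.appLE c.V (i ⁻¹ᵁ c.U) c.eq.le).hom.IsIntegral
    rw [Scheme.Hom.appLE, CommRingCat.hom_comp]
    exact RingHom.IsIntegral.trans _ _ this (RingHom.isIntegral_of_surjective _
      ((ConcreteCategory.bijective_of_isIso (Z.presheaf.map (eqToHom c.eq).op)).2)))))

theorem exists_lift {A A' B C R : Type u} [CommRing A] [CommRing A'] [CommRing B] [CommRing C] [CommRing R]
    {p : A' →+* A} {q : B →+* A} {α : C →+* A'} {β : C →+* B} (h : IsFibreProd p q α β) (u : A' →+* R) (v : B →+* R)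
    (huv : u.comp α = v.comp β) : ∃ w : A →+* R, w.comp p = u := by
  have hker : RingHom.ker p ≤ RingHom.ker u := fun t ht => by
    obtain ⟨z, hz, hzb⟩ := h.exists_of_eq 0 t (by rw [map_zero]; exact ht)
    show u t = 0
    rw [← hz, ← RingHom.comp_apply, huv, RingHom.comp_apply, hzb, map_zero]
  exact ⟨p.liftOfSurjective h.surj ⟨u, hker⟩, RingHom.liftOfRightInverse_comp _ _ _ _⟩

theorem isPullback_of_isPushout (h : IsPushout i j a b) (hY : ∀ y : Y, ∃ c : Chart i j, y ∈ c.V) :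
    IsPullback i j a b := by
  haveI := isClosedImmersion_inr h hY
  obtain ⟨φ, hφ, hcov, h1, h2, h3, h4⟩ := exists_fibreProd_chart h hY
  have key : ∀ {T : Scheme.{u}} (x : T ⟶ X) (y : T ⟶ Y), x ≫ a = y ≫ b → ∃ t : T ⟶ Z, t ≫ i = x := by
    intro T x y hxy
    have hloc : ∀ t : T, ∃ (O : T.Opens) (s : O.toScheme ⟶ Z), t ∈ O ∧ s ≫ i = O.ι ≫ x := by
      intro t
      obtain ⟨c, hc⟩ := exists_chart_X hY (x t)
      have hyt : y t ∈ c.V := by
        show y t ∈ (c.V : Set Y)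
        rw [← h4 c]
        show (y ≫ b) t ∈ Set.range (φ c)
        rw [← hxy]
        exact (h3 c).ge hc
      obtain ⟨O, hO, htO, hsub⟩ := exists_isAffineOpen_mem_and_subset (x := t) (U := x ⁻¹ᵁ c.U ⊓ y ⁻¹ᵁ c.V) ⟨hc, hyt⟩
      have hOU : O ≤ x ⁻¹ᵁ c.U := fun s hs => (hsub hs).1
      have hOV : O ≤ y ⁻¹ᵁ c.V := fun s hs => (hsub hs).2
      have hcomp : (x.appLE c.U O hOU).hom.comp c.α = (y.appLE c.V O hOV).hom.comp c.β := by
        refine congrArg CommRingCat.Hom.hom (Spec.map_injective (?_ :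
          Spec.map (CommRingCat.ofHom ((x.appLE c.U O hOU).hom.comp c.α)) =
          Spec.map (CommRingCat.ofHom ((y.appLE c.V O hOV).hom.comp c.β))))
        rw [← cancel_mono (φ c), CommRingCat.ofHom_comp, CommRingCat.ofHom_comp, Spec.map_comp, Spec.map_comp,
          Category.assoc, Category.assoc, CommRingCat.ofHom_hom, CommRingCat.ofHom_hom, ← h1, ← h2,
          c.hU.SpecMap_appLE_fromSpec_assoc x hO, c.hV.SpecMap_appLE_fromSpec_assoc y hO, hxy]
      obtain ⟨w, hw⟩ := exists_lift c.isFibreProd _ _ hcomp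
      refine ⟨O, O.toSpecΓ ≫ Spec.map (CommRingCat.ofHom w) ≫ (c.hU.preimage i).fromSpec, htO, ?_⟩
      rw [Category.assoc, Category.assoc, ← c.hU.SpecMap_appLE_fromSpec i (c.hU.preimage i) le_rfl,
        ← Spec.map_comp_assoc]
      rw [show i.appLE c.U (i ⁻¹ᵁ c.U) le_rfl ≫ CommRingCat.ofHom w = x.appLE c.U O hOU from
        CommRingCat.hom_ext hw, c.hU.SpecMap_appLE_fromSpec x hO, hO.toSpecΓ_fromSpec_assoc]
    choose O s hO hs using hloc
    let 𝒱 := T.openCoverOfIsOpenCover O (eq_top_iff.2 fun t _ => Opens.mem_iSup.mpr ⟨t, hO t⟩)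
    refine ⟨𝒱.glueMorphisms s (fun t t' => ?_), Scheme.Cover.hom_ext 𝒱 _ _ fun t => ?_⟩
    · rw [← cancel_mono i, Category.assoc, Category.assoc]
      erw [hs t, hs t']
      exact pullback.condition_assoc _
    · rw [Scheme.Cover.ι_glueMorphisms_assoc]; exact hs t
  choose l hl using fun s : PullbackCone a b => key s.fst s.snd s.condition
  refine ⟨⟨h.w⟩, ⟨PullbackCone.IsLimit.mk _ l hl (fun s => ?_) (fun s m hm1 hm2 => ?_)⟩⟩
  · rw [← cancel_mono b, Category.assoc, ← h.w, ← Category.assoc, hl, s.condition]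
  · rw [← cancel_mono i, hm1, hl]

theorem surjective_inr (h : IsPushout i j a b) (hY : ∀ y : Y, ∃ c : Chart i j, y ∈ c.V)
    (hi : Function.Surjective i) : Function.Surjective b := by
  obtain ⟨φ, hφ, hcov, h1, h2, h3, h4⟩ := exists_fibreProd_chart h hY
  intro x
  obtain ⟨c, P, rfl⟩ := hcov x
  rcases c.isFibreProd.exists_preimage P with ⟨y, rfl⟩ | ⟨y, rfl⟩
  · exact ⟨c.hV.fromSpec y, congr($(h2 c) y)⟩
  · obtain ⟨z, hz⟩ := hi (c.hU.fromSpec y)
    refine ⟨j z, ?_⟩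
    show (j ≫ b) z = _
    rw [← h.w]
    show a (i z) = _
    rw [hz]
    exact congr($(h1 c) y)

end RingPO
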