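import Mathlib
import Groth.Agent.RingPO.Affine

universe u
set_option autoImplicit false
open AlgebraicGeometry CategoryTheory CategoryTheory.Limits TopologicalSpace

namespace RingPO

variable {A A' B C : Type u} [CommRing A] [CommRing A'] [CommRing B] [CommRing C]
variable {p : A' →+* A} {q : B →+* A} {α : C →+* A'} {β : C →+* B}

/-- Morphisms out of an open piece of the spectrum of a fibre product are determined on the two pieces. -/
theorem IsFibreProd.hom_ext_open (h : IsFibreProd p q α β) {W T : Scheme.{u}} (m : W ⟶ Spec (CommRingCat.of C))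
    [IsOpenImmersion m] (k k' : W ⟶ T)
    (hA : ∀ {V : Scheme.{u}} (r : V ⟶ W) (s : V ⟶ Spec (CommRingCat.of A')),
      r ≫ m = s ≫ Spec.map (CommRingCat.ofHom α) → r ≫ k = r ≫ k')
    (hB : ∀ {V : Scheme.{u}} (r : V ⟶ W) (s : V ⟶ Spec (CommRingCat.of B)),
      r ≫ m = s ≫ Spec.map (CommRingCat.ofHom β) → r ≫ k = r ≫ k') : k = k' := by
  refine Scheme.hom_ext_of_forall _ _ fun w => ?_
  obtain ⟨_, ⟨c, rfl⟩, hwc, hsub⟩ := PrimeSpectrum.isTopologicalBasis_basic_opens.exists_subset_of_mem_open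
    (show m w ∈ (m.opensRange : Set (Spec (CommRingCat.of C))) from ⟨w, rfl⟩) m.opensRange.isOpen
  let r₀ : Spec (CommRingCat.of (Localization.Away c)) ⟶ W := IsOpenImmersion.lift m (locMap c) (by
    rw [locMap_range]; exact hsub)
  have hr₀ : r₀ ≫ m = locMap c := IsOpenImmersion.lift_fac _ _ _
  haveI : IsOpenImmersion (locMap c) := IsOpenImmersion.of_isLocalization c
  haveI : IsOpenImmersion r₀ := by
    haveI : IsOpenImmersion (r₀ ≫ m) := by rw [hr₀]; infer_instance
    exact IsOpenImmersion.of_comp _ m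
  have e : r₀ ≫ k = r₀ ≫ k' := by
    refine (h.away c).hom_ext ?_ ?_
    · simp only [← Category.assoc]
      exact hA _ (locMap (α c)) (by rw [Category.assoc, hr₀, spec_awayMap_locMap])
    · simp only [← Category.assoc]
      exact hB _ (locMap (β c)) (by rw [Category.assoc, hr₀, spec_awayMap_locMap])
  refine ⟨r₀.opensRange, ?_, ?_⟩
  · have : m w ∈ Set.range (locMap c) := by rw [locMap_range]; exact hwc
    obtain ⟨x, hx⟩ := this
    refine ⟨x, m.isOpenEmbedding.injective ?_⟩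
    show (r₀ ≫ m) x = m w
    rw [hr₀]; exact hx
  · rw [← cancel_epi r₀.isoOpensRange.hom, Scheme.Hom.isoOpensRange_hom_ι_assoc, Scheme.Hom.isoOpensRange_hom_ι_assoc, e]

/-- A local model of a pushout square: an open piece of the corner is the spectrum of a fibre product. -/
structure Model {X Y Z P : Scheme.{u}} (i : Z ⟶ X) (j : Z ⟶ Y) (a : X ⟶ P) (b : Y ⟶ P) : Type (u+1) where
  A : Type u
  A' : Type u
  B : Type u
  C : Type u
  [rA : CommRing A]
  [rA' : CommRing A']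
  [rB : CommRing B]
  [rC : CommRing C]
  p : A' →+* A
  q : B →+* A
  α : C →+* A'
  β : C →+* B
  h : IsFibreProd p q α β
  φ : Spec (CommRingCat.of C) ⟶ P
  [hφ : IsOpenImmersion φ]
  u : Spec (CommRingCat.of A') ⟶ X
  v : Spec (CommRingCat.of B) ⟶ Y
  w : Spec (CommRingCat.of A) ⟶ Z
  hw₁ : w ≫ i = Spec.map (CommRingCat.ofHom p) ≫ u
  hw₂ : w ≫ j = Spec.map (CommRingCat.ofHom q) ≫ v
  hu : IsPullback u (Spec.map (CommRingCat.ofHom α)) a φ
  hv : IsPullback v (Spec.map (CommRingCat.ofHom β)) b φ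

attribute [instance] Model.rA Model.rA' Model.rB Model.rC Model.hφ

variable {X Y Z P : Scheme.{u}} {i : Z ⟶ X} {j : Z ⟶ Y} {a : X ⟶ P} {b : Y ⟶ P}

theorem Model.exists_desc' (M : Model i j a b) {T : Scheme.{u}} (g₁ : X ⟶ T) (g₂ : Y ⟶ T) (hg : i ≫ g₁ = j ≫ g₂) :
    ∃ k : Spec (CommRingCat.of M.C) ⟶ T,
      Spec.map (CommRingCat.ofHom M.α) ≫ k = M.u ≫ g₁ ∧ Spec.map (CommRingCat.ofHom M.β) ≫ k = M.v ≫ g₂ :=
  M.h.exists_desc _ _ (by rw [← reassoc_of% M.hw₁, ← reassoc_of% M.hw₂, hg])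

/-- Recognition of pushouts: a commutative square covered by local models is a pushout. -/
theorem isPushout_of_models (w : i ≫ a = j ≫ b) {κ : Type u} (M : κ → Model i j a b)
    (hcov : ∀ x : P, ∃ k, x ∈ Set.range (M k).φ) : IsPushout i j a b := by
  let 𝒰 : P.OpenCover :=
    { I₀ := κ
      X := fun k => Spec (CommRingCat.of (M k).C)
      f := fun k => (M k).φ
      mem₀ := by
        rw [Scheme.presieve₀_mem_precoverage_iff]
        exact ⟨hcov, fun k => inferInstance⟩ }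
  have huniq : ∀ {T : Scheme.{u}} (k k' : P ⟶ T), a ≫ k = a ≫ k' → b ≫ k = b ≫ k' → k = k' := by
    intro T k k' h₁ h₂
    refine Scheme.Cover.hom_ext 𝒰 _ _ fun x => (M x).h.hom_ext ?_ ?_
    · show Spec.map _ ≫ (M x).φ ≫ k = Spec.map _ ≫ (M x).φ ≫ k'
      rw [← reassoc_of% (M x).hu.w, ← reassoc_of% (M x).hu.w, h₁]
    · show Spec.map _ ≫ (M x).φ ≫ k = Spec.map _ ≫ (M x).φ ≫ k'
      rw [← reassoc_of% (M x).hv.w, ← reassoc_of% (M x).hv.w, h₂]
  have hex : ∀ s : PushoutCocone i j, ∃ k : P ⟶ s.pt, a ≫ k = s.inl ∧ b ≫ k = s.inr := by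
    intro s
    choose l hl₁ hl₂ using fun x => (M x).exists_desc' s.inl s.inr s.condition
    have hcompat : ∀ x y, pullback.fst (𝒰.f x) (𝒰.f y) ≫ l x = pullback.snd (𝒰.f x) (𝒰.f y) ≫ l y := by
      intro x y
      haveI : IsOpenImmersion (𝒰.f y) := inferInstanceAs (IsOpenImmersion (M y).φ)
      refine (M x).h.hom_ext_open (pullback.fst (𝒰.f x) (𝒰.f y)) _ _ (fun r t e => ?_) (fun r t e => ?_)
      · have e2 : (t ≫ (M x).u) ≫ a = (r ≫ pullback.snd (𝒰.f x) (𝒰.f y)) ≫ (M y).φ := by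
          rw [Category.assoc, (M x).hu.w, ← Category.assoc, ← e, Category.assoc, Category.assoc]
          exact congrArg (r ≫ ·) pullback.condition
        rw [reassoc_of% e, hl₁, ← reassoc_of% ((M y).hu.lift_snd _ _ e2), hl₁,
          ← Category.assoc ((M y).hu.lift _ _ e2), (M y).hu.lift_fst, Category.assoc]
      · have e2 : (t ≫ (M x).v) ≫ b = (r ≫ pullback.snd (𝒰.f x) (𝒰.f y)) ≫ (M y).φ := by
          rw [Category.assoc, (M x).hv.w, ← Category.assoc, ← e, Category.assoc, Category.assoc]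
          exact congrArg (r ≫ ·) pullback.condition
        rw [reassoc_of% e, hl₂, ← reassoc_of% ((M y).hv.lift_snd _ _ e2), hl₂,
          ← Category.assoc ((M y).hv.lift _ _ e2), (M y).hv.lift_fst, Category.assoc]
    refine ⟨𝒰.glueMorphisms l hcompat, ?_, ?_⟩
    · refine Scheme.Cover.hom_ext (𝒰.pullback₁ a) _ _ fun x => ?_
      show pullback.fst a (M x).φ ≫ a ≫ _ = pullback.fst a (M x).φ ≫ s.inl
      rw [← cancel_epi (M x).hu.isoPullback.hom, (M x).hu.isoPullback_hom_fst_assoc,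
        (M x).hu.isoPullback_hom_fst_assoc, (M x).hu.w_assoc]
      erw [Scheme.Cover.ι_glueMorphisms 𝒰 l hcompat x]
      exact hl₁ x
    · refine Scheme.Cover.hom_ext (𝒰.pullback₁ b) _ _ fun x => ?_
      show pullback.fst b (M x).φ ≫ b ≫ _ = pullback.fst b (M x).φ ≫ s.inr
      rw [← cancel_epi (M x).hv.isoPullback.hom, (M x).hv.isoPullback_hom_fst_assoc,
        (M x).hv.isoPullback_hom_fst_assoc, (M x).hv.w_assoc]
      erw [Scheme.Cover.ι_glueMorphisms 𝒰 l hcompat x]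
      exact hl₂ x
  choose d hd1 hd2 using hex
  exact ⟨⟨w⟩, ⟨PushoutCocone.IsColimit.mk _ d hd1 hd2
    (fun s m hm1 hm2 => huniq _ _ (hm1.trans (hd1 s).symm) (hm2.trans (hd2 s).symm))⟩⟩

end RingPO
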