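import Mathlib
import Groth.Agent.RingPO.Affine
import Groth.Agent.FlatMisc.RingPullback

universe u
set_option autoImplicit false
open TensorProduct

namespace RingPO

variable {R A A' B C : Type u} [CommRing R] [CommRing A] [CommRing A'] [CommRing B] [CommRing C]
  [Algebra R A] [Algebra R A'] [Algebra R B] [Algebra R C]
variable {p : A' →ₐ[R] A} {q : B →ₐ[R] A} {α : C →ₐ[R] A'} {β : C →ₐ[R] B}

theorem IsFibreProd.exact_diff (h : IsFibreProd p.toRingHom q.toRingHom α.toRingHom β.toRingHom) :
    Function.Injective (α.toLinearMap.prod β.toLinearMap) ∧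
    Function.Surjective (p.toLinearMap ∘ₗ LinearMap.fst R A' B - q.toLinearMap ∘ₗ LinearMap.snd R A' B) ∧
    Function.Exact (α.toLinearMap.prod β.toLinearMap)
      (p.toLinearMap ∘ₗ LinearMap.fst R A' B - q.toLinearMap ∘ₗ LinearMap.snd R A' B) := by
  refine ⟨fun z z' hz => h.ext z z' (congrArg Prod.fst hz) (congrArg Prod.snd hz), fun x => ?_, fun y => ?_⟩
  · obtain ⟨a, ha⟩ := h.surj x
    exact ⟨(a, 0), show p a - q 0 = x by rw [map_zero, sub_zero]; exact ha⟩
  · constructor
    · intro hy
      obtain ⟨z, h1, h2⟩ := h.exists_of_eq y.2 y.1 (sub_eq_zero.mp (show p y.1 - q y.2 = 0 from hy))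
      exact ⟨z, Prod.ext h1 h2⟩
    · rintro ⟨z, rfl⟩
      show p (α z) - q (β z) = 0
      exact sub_eq_zero.mpr (h.comm z)

/-- If `C` is the fibre product of `A' → A ← B`, with `A', B, A` flat, so is `C`. -/
theorem IsFibreProd.flat (h : IsFibreProd p.toRingHom q.toRingHom α.toRingHom β.toRingHom) [Module.Flat R A]
    [Module.Flat R A'] [Module.Flat R B] : Module.Flat R C := by
  haveI : Module.Flat R (A' × B) := FlatMisc.flat_prod
  obtain ⟨h1, h2, h3⟩ := h.exact_diff
  exact FlatMisc.flat_of_exact _ _ h1 h2 h3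

/-- Base change of a fibre product. -/
theorem IsFibreProd.tensor (h : IsFibreProd p.toRingHom q.toRingHom α.toRingHom β.toRingHom) (R' : Type u)
    [CommRing R'] [Algebra R R'] (hf : Module.Flat R A ∨ Module.Flat R R') :
    IsFibreProd (Algebra.TensorProduct.map p (AlgHom.id R R')).toRingHom
      (Algebra.TensorProduct.map q (AlgHom.id R R')).toRingHom
      (Algebra.TensorProduct.map α (AlgHom.id R R')).toRingHom
      (Algebra.TensorProduct.map β (AlgHom.id R R')).toRingHom := by
  obtain ⟨h1, h2, h3⟩ := h.exact_diff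
  set ι := α.toLinearMap.prod β.toLinearMap
  set d := p.toLinearMap ∘ₗ LinearMap.fst R A' B - q.toLinearMap ∘ₗ LinearMap.snd R A' B with hd'
  have hι : Function.Injective (ι.rTensor R') := by
    rcases hf with hf | hf
    · exact (LinearMap.lTensor_inj_iff_rTensor_inj R' ι).mp (LinearMap.lTensor_injective_of_exact_of_flat d h2 ι h1 h3 R')
    · exact Module.Flat.rTensor_preserves_injective_linearMap ι h1
  let e := TensorProduct.prodLeft R R A' B R'
  have he : ∀ z, e (ι.rTensor R' z) = (Algebra.TensorProduct.map α (AlgHom.id R R') z,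
      Algebra.TensorProduct.map β (AlgHom.id R R') z) := by
    intro z
    induction z using TensorProduct.induction_on with
    | zero => simp only [map_zero]; rfl
    | tmul c r => rfl
    | add x y hx hy => simp only [map_add, hx, hy, Prod.mk_add_mk]
  have hd : ∀ y, d.rTensor R' y = Algebra.TensorProduct.map p (AlgHom.id R R') (e y).1 -
      Algebra.TensorProduct.map q (AlgHom.id R R') (e y).2 := by
    intro y
    induction y using TensorProduct.induction_on with
    | zero => simp
    | tmul c r =>
      show (p c.1 - q c.2) ⊗ₜ[R] r = p c.1 ⊗ₜ[R] r - q c.2 ⊗ₜ[R] r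
      exact TensorProduct.sub_tmul _ _ _
    | add x y hx hy =>
      simp only [map_add, hx, hy, Prod.fst_add, Prod.snd_add]
      abel
  have hex := rTensor_exact R' h3 h2
  refine ⟨?_, fun z => ?_, fun z z' hz hz' => hι (e.injective ?_), fun b a hab => ?_⟩
  · intro x
    induction x using TensorProduct.induction_on with
    | zero => exact ⟨0, map_zero _⟩
    | tmul c r =>
      obtain ⟨a, ha⟩ := h.surj c
      exact ⟨a ⊗ₜ r, show p a ⊗ₜ[R] r = c ⊗ₜ[R] r from congrArg (· ⊗ₜ[R] r) ha⟩
    | add x y hx hy =>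
      obtain ⟨a, ha⟩ := hx
      obtain ⟨b, hb⟩ := hy
      exact ⟨a + b, by rw [map_add, ha, hb]⟩
  · have h0 : d.rTensor R' (ι.rTensor R' z) = 0 := hex.apply_apply_eq_zero z
    rw [hd, he, sub_eq_zero] at h0
    exact h0
  · rw [he, he]; exact Prod.ext hz hz'
  · obtain ⟨z, hz⟩ := (hex (e.symm (a, b))).mp (by
      rw [hd, LinearEquiv.apply_symm_apply, sub_eq_zero]; exact hab)
    have := he z
    rw [hz, LinearEquiv.apply_symm_apply] at this
    exact ⟨z, (congrArg Prod.fst this).symm, (congrArg Prod.snd this).symm⟩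

end RingPO
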