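import Mathlib
import Groth.Prelude.Def_EtMil
import Groth.Agent.RingPO.BaseChange

/-!
# Charts of a morphism between pushouts of cartesian squares
-/

universe u
set_option autoImplicit false
open AlgebraicGeometry CategoryTheory CategoryTheory.Limits TopologicalSpace Opposite

namespace RingPO

theorem isPullback_fromSpec' {W S : Scheme.{u}} (f : W ⟶ S) [IsAffineHom f] {U : S.Opens} (hU : IsAffineOpen U)
    {V : W.Opens} (hV : IsAffineOpen V) (e : V = f ⁻¹ᵁ U) :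
    IsPullback hV.fromSpec (Spec.map (f.appLE U V e.le)) f hU.fromSpec := by
  subst e
  exact isPullback_fromSpec f hU

/-- Sections over compatible affine opens of a cartesian square form a pushout of rings. -/
theorem isPushout_appLE_of_isPullback {Y Z Y' Z' : Scheme.{u}} {j : Z ⟶ Y} {j' : Z' ⟶ Y'} {g : Y' ⟶ Y} {c : Z' ⟶ Z}
    (hY : IsPullback j' c g j) [IsAffineHom j] [IsAffineHom j'] {V : Y.Opens} (hV : IsAffineOpen V) {V' : Y'.Opens}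
    (hV' : IsAffineOpen V') (e : V' ≤ g ⁻¹ᵁ V) {W : Z.Opens} (hW : IsAffineOpen W) (hWe : W = j ⁻¹ᵁ V) {W' : Z'.Opens}
    (hW' : IsAffineOpen W') (hWe' : W' = j' ⁻¹ᵁ V') (ec : W' ≤ c ⁻¹ᵁ W) :
    IsPushout (g.appLE V V' e) (j.appLE V W hWe.le) (j'.appLE V' W' hWe'.le) (c.appLE W W' ec) := by
  have h2 := ((isPullback_fromSpec' j' hV' hW' hWe').paste_horiz hY.flip)
  rw [← hW.SpecMap_appLE_fromSpec c hW' ec, ← hV.SpecMap_appLE_fromSpec g hV' e] at h2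
  have h3 : IsPullback (Spec.map (c.appLE W W' ec)) (Spec.map (j'.appLE V' W' hWe'.le))
      (Spec.map (j.appLE V W hWe.le)) (Spec.map (g.appLE V V' e)) := by
    refine IsPullback.of_right h2 ?_ (isPullback_fromSpec' j hV hW hWe)
    rw [← Spec.map_comp, ← Spec.map_comp, Scheme.Hom.appLE_comp_appLE, Scheme.Hom.appLE_comp_appLE]
    congr 2
    simp only [hY.w]
  have h4 : IsPullback (c.appLE W W' ec).op (j'.appLE V' W' hWe'.le).op (j.appLE V W hWe.le).op (g.appLE V V' e).op :=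
    IsPullback.of_map Scheme.Spec (by rw [← op_comp, ← op_comp, Scheme.Hom.appLE_comp_appLE, Scheme.Hom.appLE_comp_appLE]; congr 2; simp only [hY.w]) h3
  exact h4.unop

variable {X Y Z P : Scheme.{u}} {i : Z ⟶ X} {j : Z ⟶ Y} {a : X ⟶ P} {b : Y ⟶ P} [IsClosedImmersion i]

/-- A property of morphisms determined by its charts transfers between the corner and the pieces. -/
theorem iff_of_charts {X' Y' P' : Scheme.{u}} {a' : X' ⟶ P'} {b' : Y' ⟶ P'} [IsAffineHom a'] [IsAffineHom b']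
    [IsAffineHom a] [IsAffineHom b] {f : X' ⟶ X} {g : Y' ⟶ Y} {h : P' ⟶ P} (ha : a' ≫ h = f ≫ a)
    (hb : b' ≫ h = g ≫ b) (Q : ∀ {R S : Type u} [CommRing R] [CommRing S], (R →+* S) → Prop)
    (Pr : ∀ {V W : Scheme.{u}}, (V ⟶ W) → Prop)
    (hfwd : ∀ {V W : Scheme.{u}} (φ : V ⟶ W), Pr φ → ∀ (U : W.affineOpens) (U' : V.affineOpens) (e : U'.1 ≤ φ ⁻¹ᵁ U.1),
      Q (φ.appLE U U' e).hom)
    (hbwd : ∀ {V W : Scheme.{u}} (φ : V ⟶ W), (∀ x : V, ∃ (U : W.affineOpens) (U' : V.affineOpens) (_ : x ∈ U'.1)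
      (e : U'.1 ≤ φ ⁻¹ᵁ U.1), Q (φ.appLE U U' e).hom) → Pr φ)
    (key : ∀ (U : P.affineOpens) (U' : P'.affineOpens) (e : U'.1 ≤ h ⁻¹ᵁ U.1) (e₁ : a' ⁻¹ᵁ U'.1 ≤ f ⁻¹ᵁ a ⁻¹ᵁ U.1)
      (e₂ : b' ⁻¹ᵁ U'.1 ≤ g ⁻¹ᵁ b ⁻¹ᵁ U.1), Q (h.appLE U U' e).hom ↔
        Q (f.appLE (a ⁻¹ᵁ U.1) (a' ⁻¹ᵁ U'.1) e₁).hom ∧ Q (g.appLE (b ⁻¹ᵁ U.1) (b' ⁻¹ᵁ U'.1) e₂).hom) :
    Pr h ↔ Pr f ∧ Pr g := by
  have h₁ : ∀ (U : P.Opens) (U' : P'.Opens), U' ≤ h ⁻¹ᵁ U → a' ⁻¹ᵁ U' ≤ f ⁻¹ᵁ a ⁻¹ᵁ U := fun U U' e => by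
    rw [← Scheme.Hom.comp_preimage, ← ha, Scheme.Hom.comp_preimage]; exact a'.preimage_mono e
  have h₂ : ∀ (U : P.Opens) (U' : P'.Opens), U' ≤ h ⁻¹ᵁ U → b' ⁻¹ᵁ U' ≤ g ⁻¹ᵁ b ⁻¹ᵁ U := fun U U' e => by
    rw [← Scheme.Hom.comp_preimage, ← hb, Scheme.Hom.comp_preimage]; exact b'.preimage_mono e
  have hsel : ∀ x : P', ∃ (U : P.affineOpens) (U' : P'.affineOpens), x ∈ U'.1 ∧ U'.1 ≤ h ⁻¹ᵁ U.1 := by
    intro x
    obtain ⟨U, hU, hxU, -⟩ := exists_isAffineOpen_mem_and_subset (x := h x) (U := (⊤ : P.Opens)) (by simp)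
    obtain ⟨U', hU', hxU', hle⟩ := exists_isAffineOpen_mem_and_subset (x := x) (U := h ⁻¹ᵁ U) hxU
    exact ⟨⟨U, hU⟩, ⟨U', hU'⟩, hxU', hle⟩
  constructor
  · intro hh
    constructor
    · refine hbwd f fun x => ?_
      obtain ⟨U, U', hx, e⟩ := hsel (a' x)
      exact ⟨⟨_, U.2.preimage a⟩, ⟨_, U'.2.preimage a'⟩, hx, h₁ _ _ e,
        ((key U U' e (h₁ _ _ e) (h₂ _ _ e)).mp (hfwd h hh U U' e)).1⟩
    · refine hbwd g fun x => ?_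
      obtain ⟨U, U', hx, e⟩ := hsel (b' x)
      exact ⟨⟨_, U.2.preimage b⟩, ⟨_, U'.2.preimage b'⟩, hx, h₂ _ _ e,
        ((key U U' e (h₁ _ _ e) (h₂ _ _ e)).mp (hfwd h hh U U' e)).2⟩
  · rintro ⟨hf, hg⟩
    refine hbwd h fun x => ?_
    obtain ⟨U, U', hx, e⟩ := hsel x
    exact ⟨U, U', hx, e, (key U U' e (h₁ _ _ e) (h₂ _ _ e)).mpr
      ⟨hfwd f hf ⟨_, U.2.preimage a⟩ ⟨_, U'.2.preimage a'⟩ _, hfwd g hg ⟨_, U.2.preimage b⟩ ⟨_, U'.2.preimage b'⟩ _⟩⟩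

theorem isFibreSquare_of_isFibreProd {B' B A' A : Type u} [CommRing B'] [CommRing B] [CommRing A'] [CommRing A]
    [Algebra B' B] [Algebra B' A'] [Algebra B A] [Algebra A' A]
    (h : IsFibreProd (algebraMap A' A) (algebraMap B A) (algebraMap B' A') (algebraMap B' B)) :
    EtMil.IsFibreSquare B' B A' A :=
  ⟨h.surj, fun b a e => by
    obtain ⟨z, hza, hzb⟩ := h.exists_of_eq b a e.symm
    exact ⟨z, ⟨hzb, hza⟩, fun z' hz' => h.ext z' z (hz'.2.trans hza.symm) (hz'.1.trans hzb.symm)⟩⟩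

end RingPO
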