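import Mathlib
import Groth.Agent.RingPO.Charts
import Groth.Agent.RingPO.Props

/-!
# Fibres of pulled back integral morphisms lie in affine opens
-/

universe u
set_option autoImplicit false
open AlgebraicGeometry CategoryTheory CategoryTheory.Limits TopologicalSpace Opposite

namespace RingPO

/-- A compact subset of a fibre of `Spec T → Spec B` inside an open of `Spec R`, with `Spec T → Spec R` a closed
immersion and `T` integral over `B`, lies in a basic open inside that open. -/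
theorem exists_basicOpen_of_fibre {X Z V : Scheme.{u}} [IsAffine X] [IsAffine Z] [IsAffine V] (i : Z ⟶ X)
    [IsClosedImmersion i] (π : Z ⟶ V) [IsIntegralHom π] (v : V) (O : X.Opens) (F : Set Z) (hF : IsCompact F)
    (hFv : ∀ z ∈ F, π z = v) (hFO : ∀ z ∈ F, i z ∈ O) :
    ∃ s : Γ(X, ⊤), X.basicOpen s ≤ O ∧ ∀ z ∈ F, i z ∈ X.basicOpen s := by
  classical
  have hex : ∀ q : F, ∃ f : Γ(X, ⊤), i q.1 ∈ X.basicOpen f ∧ X.basicOpen f ≤ O := fun q => by
    obtain ⟨f, hfO, hqf⟩ := (isAffineOpen_top X).exists_basicOpen_le (V := O) ⟨i q.1, hFO q.1 q.2⟩ trivial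
    exact ⟨f, hqf, hfO⟩
  choose f hqf hfO using hex
  obtain ⟨t, ht⟩ := hF.elim_finite_subcover (fun q => (i ⁻¹ᵁ X.basicOpen (f q) : Set Z))
    (fun q => (i ⁻¹ᵁ X.basicOpen (f q)).isOpen) (fun z hz => Set.mem_iUnion.mpr ⟨⟨z, hz⟩, hqf ⟨z, hz⟩⟩)
  obtain ⟨n, e, hen⟩ : ∃ (n : ℕ) (e : Fin n → F), F ⊆ ⋃ k, (i ⁻¹ᵁ X.basicOpen (f (e k)) : Set Z) := by
    refine ⟨t.card, fun k => (t.equivFin.symm k).1, fun z hz => ?_⟩
    obtain ⟨q, hq, hzq⟩ := Set.mem_iUnion₂.mp (ht hz)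
    exact Set.mem_iUnion.mpr ⟨t.equivFin ⟨q, hq⟩, by simpa using hzq⟩
  let φ : Γ(V, ⊤) →+* Γ(Z, ⊤) := π.appTop.hom
  have hφ : φ.IsIntegral := IsIntegralHom.isIntegral_app π ⊤ (isAffineOpen_top V)
  let p := ((isAffineOpen_top V).primeIdealOf ⟨v, trivial⟩).asIdeal
  let ρ : Γ(X, ⊤) →+* Γ(Z, ⊤) := i.appTop.hom
  have hρs : Function.Surjective ρ := i.app_surjective ⊤ (isAffineOpen_top X)
  choose d hd using fun k => exists_complement_mem φ hφ p (ρ (f k))
  choose d' hd' using fun k => hρs (d k)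
  refine ⟨∑ k, f (e k) * ∏ l ∈ Finset.univ.filter (· < k), d' (e l), fun x hx => ?_, fun z hz => ?_⟩
  · by_contra hn
    rw [Scheme.mem_basicOpen _ _ _ (Opens.mem_top x), map_sum] at hx
    refine (IsLocalRing.mem_maximalIdeal _).mp (sum_mem fun k _ => ?_) hx
    rw [map_mul]
    refine Ideal.mul_mem_right _ _ ?_
    rw [IsLocalRing.mem_maximalIdeal, mem_nonunits_iff, ← Scheme.mem_basicOpen _ _ _ (Opens.mem_top x)]
    exact fun h => hn (hfO _ h)
  · set Q := ((isAffineOpen_top Z).primeIdealOf ⟨z, trivial⟩).asIdeal with hQdef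
    have hmem : ∀ g : Γ(Z, ⊤), z ∈ Z.basicOpen g ↔ g ∉ Q := fun g => by
      rw [show z ∈ Z.basicOpen g ↔ (isAffineOpen_top Z).fromSpec ((isAffineOpen_top Z).primeIdealOf ⟨z, trivial⟩) ∈
        Z.basicOpen g by rw [IsAffineOpen.fromSpec_primeIdealOf]]
      show (isAffineOpen_top Z).primeIdealOf ⟨z, trivial⟩ ∈ (isAffineOpen_top Z).fromSpec ⁻¹ᵁ Z.basicOpen g ↔ _
      rw [(isAffineOpen_top Z).fromSpec_preimage_basicOpen]; rfl
    have hpre : ∀ g : Γ(X, ⊤), i z ∈ X.basicOpen g ↔ ρ g ∉ Q := fun g => by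
      show z ∈ i ⁻¹ᵁ X.basicOpen g ↔ _
      rw [Scheme.preimage_basicOpen]; exact hmem _
    have hQ : Q.comap φ = p := by
      obtain rfl := hFv z hz
      have h2 := congrArg PrimeSpectrum.asIdeal
        (IsAffineOpen.comap_primeIdealOf_appLE (f := π) ⊤ (isAffineOpen_top V) ⊤ (isAffineOpen_top Z) le_rfl (x := z) trivial)
      rw [show π.appLE ⊤ ⊤ le_rfl = π.appTop from (Scheme.Hom.app_eq_appLE _).symm] at h2
      exact h2
    have hd₀ : ∀ k, d k ∉ Q ↔ ρ (f k) ∈ Q := fun k =>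
      hd k Q ((isAffineOpen_top Z).primeIdealOf ⟨z, trivial⟩).2 hQ
    have hnot : ∃ k, ρ (f (e k)) ∉ Q := by
      obtain ⟨k, hk⟩ := Set.mem_iUnion.mp (hen hz)
      exact ⟨k, (hpre _).mp hk⟩
    let k₀ := Fin.find _ hnot
    have hk₀ : ρ (f (e k₀)) ∉ Q := Fin.find_spec hnot
    rw [hpre, map_sum]
    intro hsum
    rw [← Finset.sum_erase_add _ _ (Finset.mem_univ k₀)] at hsum
    have hrest : ∑ k ∈ Finset.univ.erase k₀, ρ (f (e k) * ∏ l ∈ Finset.univ.filter (· < k), d' (e l)) ∈ Q := by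
      refine sum_mem fun k hk => ?_
      rw [map_mul]
      rcases lt_trichotomy k k₀ with hlt | heq | hgt
      · exact Ideal.mul_mem_right _ _ (not_not.mp (Fin.find_min hnot hlt))
      · exact absurd heq (Finset.ne_of_mem_erase hk)
      · refine Ideal.mul_mem_left _ _ ?_
        rw [map_prod]
        refine Ideal.prod_mem _ (Finset.mem_filter.mpr ⟨Finset.mem_univ k₀, hgt⟩) ?_
        rw [hd']
        by_contra hdd
        exact hk₀ ((hd₀ _).mp hdd)
    have h1 : ρ (f (e k₀) * ∏ l ∈ Finset.univ.filter (· < k₀), d' (e l)) ∈ Q := by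
      simpa using sub_mem hsum hrest
    rw [map_mul, map_prod] at h1
    rcases ((isAffineOpen_top Z).primeIdealOf ⟨z, trivial⟩).2.mem_or_mem h1 with h2 | h2
    · exact hk₀ h2
    · obtain ⟨l, hl, hl'⟩ := (((isAffineOpen_top Z).primeIdealOf ⟨z, trivial⟩).2.prod_mem_iff).mp h2
      rw [hd'] at hl'
      exact (hd₀ _).mpr (not_not.mp (Fin.find_min hnot (Finset.mem_filter.mp hl).2)) hl'

/-- Ferrand's condition passes to separated quasi-finite squares. -/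
theorem exists_affine_fibre {X Y Z X' Y' Z' : Scheme.{u}} {i : Z ⟶ X} [IsClosedImmersion i] {j : Z ⟶ Y}
    [IsIntegralHom j] (hj : ∀ y : Y, ∃ U : X.Opens, IsAffineOpen U ∧ j ⁻¹' {y} ⊆ (i ⁻¹ᵁ U : Set ↑Z))
    {i' : Z' ⟶ X'} {j' : Z' ⟶ Y'} [IsIntegralHom j'] {f : X' ⟶ X} {g : Y' ⟶ Y} {h : Z' ⟶ Z}
    [IsSeparated f] [LocallyQuasiFinite f] [LocallyOfFiniteType f]
    (hX : h ≫ i = i' ≫ f) (hY : h ≫ j = j' ≫ g) (y' : Y') :
    ∃ U' : X'.Opens, IsAffineOpen U' ∧ j' ⁻¹' {y'} ⊆ (i' ⁻¹ᵁ U' : Set ↑Z') := by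
  obtain ⟨c, hc⟩ := chart_of_integral hj (g y')
  have hcpt : IsCompact (j' ⁻¹' {y'}) := by
    haveI : CompactSpace ↥(j' ⁻¹' {y'}) := (j'.fiberHomeo y').compactSpace
    exact isCompact_iff_compactSpace.mpr inferInstance
  have hFU : ∀ z ∈ j' ⁻¹' {y'}, h z ∈ i ⁻¹ᵁ c.U := fun z hz => by
    rw [c.eq]
    show (h ≫ j) z ∈ c.V
    rw [hY]
    show g (j' z) ∈ c.V
    rw [show j' z = y' from hz]
    exact hc
  obtain ⟨K, hKo, hKc, hK₁, hK₂⟩ := PrespectralSpace.exists_isCompact_and_isOpen_between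
    (hcpt.image i'.continuous) (f ⁻¹ᵁ c.U).isOpen (by
      rintro _ ⟨z, hz, rfl⟩
      show (i' ≫ f) z ∈ c.U
      rw [← hX]
      exact hFU z hz)
  let O : X'.Opens := ⟨K, hKc⟩
  haveI : IsAffine c.U.toScheme := c.hU
  let f₁ : O.toScheme ⟶ c.U.toScheme := f.resLE c.U O hK₂
  haveI : CompactSpace O.toScheme := isCompact_iff_compactSpace.mp hKo
  haveI : LocallyQuasiFinite f₁ := by
    haveI : LocallyQuasiFinite (f₁ ≫ c.U.ι) := by rw [Scheme.Hom.resLE_comp_ι]; infer_instance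
    exact LocallyQuasiFinite.of_comp f₁ c.U.ι
  haveI : LocallyOfFiniteType f₁ := by
    haveI : LocallyOfFiniteType (f₁ ≫ c.U.ι) := by rw [Scheme.Hom.resLE_comp_ι]; infer_instance
    exact locallyOfFiniteType_of_comp f₁ c.U.ι
  haveI : IsSeparated f₁ := by
    haveI : IsSeparated (f₁ ≫ c.U.ι) := by rw [Scheme.Hom.resLE_comp_ι]; infer_instance
    exact IsSeparated.of_comp f₁ c.U.ι
  haveI : IsAffine f₁.normalization := isAffine_of_isAffineHom f₁.fromNormalization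
  haveI : IsAffine (i ⁻¹ᵁ c.U).toScheme := c.hU.preimage i
  haveI : IsAffine c.V.toScheme := c.hV
  let P := pullback f₁.fromNormalization (i ∣_ c.U)
  haveI : IsAffine P := isAffine_of_isAffineHom (pullback.snd f₁.fromNormalization (i ∣_ c.U))
  haveI : IsIntegralHom (j.resLE c.V (i ⁻¹ᵁ c.U) c.eq.le) := by
    have : j.resLE c.V (i ⁻¹ᵁ c.U) c.eq.le = Z.homOfLE c.eq.le ≫ (j ∣_ c.V) := by
      rw [← cancel_mono c.V.ι, Scheme.Hom.resLE_comp_ι, Category.assoc, morphismRestrict_ι, Scheme.homOfLE_ι_assoc]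
    rw [this]
    haveI : IsIso (Z.homOfLE c.eq.le) := by
      rw [show Z.homOfLE c.eq.le = (Z.isoOfEq c.eq).hom from (Scheme.isoOfEq_hom Z c.eq).symm]; infer_instance
    haveI : IsIntegralHom (j ∣_ c.V) := IsZariskiLocalAtTarget.restrict ‹_› _
    infer_instance
  let π : P ⟶ c.V.toScheme := pullback.snd _ _ ≫ j.resLE c.V (i ⁻¹ᵁ c.U) c.eq.le
  let F : Set P := π ⁻¹' {⟨g y', hc⟩} ∩ pullback.fst f₁.fromNormalization (i ∣_ c.U) ⁻¹'
    (f₁.toNormalization '' (O.ι ⁻¹' (i' '' (j' ⁻¹' {y'}))))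
  let T : Set (f₁.normalization) := f₁.toNormalization '' (O.ι ⁻¹' (i' '' (j' ⁻¹' {y'})))
  have hlift : ∀ (z : Z') (hz : z ∈ j' ⁻¹' {y'}), ∃ w : P, π w = ⟨g y', hc⟩ ∧
      pullback.fst f₁.fromNormalization (i ∣_ c.U) w = f₁.toNormalization ⟨i' z, hK₁ ⟨z, hz, rfl⟩⟩ := by
    intro z hz
    have e1 : f₁.fromNormalization (f₁.toNormalization ⟨i' z, hK₁ ⟨z, hz, rfl⟩⟩) = (i ∣_ c.U) ⟨h z, hFU z hz⟩ := by
      show (f₁.toNormalization ≫ f₁.fromNormalization) _ = _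
      rw [Scheme.Hom.toNormalization_fromNormalization]
      apply Subtype.ext
      rw [morphismRestrict_base_coe]
      show (f.resLE c.U O hK₂ ≫ c.U.ι) _ = i (h z)
      rw [Scheme.Hom.resLE_comp_ι]
      show (i' ≫ f) z = (h ≫ i) z
      rw [hX]
    obtain ⟨w, hw₁, hw₂⟩ := Scheme.Pullback.exists_preimage_pullback _ _ e1
    refine ⟨w, ?_, hw₁⟩
    apply Subtype.ext
    show (π ≫ c.V.ι) w = g y'
    rw [Category.assoc, Scheme.Hom.resLE_comp_ι]
    show j ((i ⁻¹ᵁ c.U).ι (pullback.snd f₁.fromNormalization (i ∣_ c.U) w)) = g y'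
    rw [hw₂]
    show (h ≫ j) z = g y'
    rw [hY]
    show g (j' z) = g y'
    rw [show j' z = y' from hz]
  haveI : IsClosedImmersion (i ∣_ c.U) := IsZariskiLocalAtTarget.restrict ‹_› _
  have hTc : IsCompact T := by
    refine IsCompact.image ?_ f₁.toNormalization.continuous
    refine O.ι.isOpenEmbedding.isInducing.isCompact_preimage' (hcpt.image i'.continuous) ?_
    rw [Scheme.Opens.range_ι]; exact hK₁
  have hTr : T ⊆ Set.range (pullback.fst f₁.fromNormalization (i ∣_ c.U)) := by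
    rintro _ ⟨x, ⟨z, hz, hzx⟩, rfl⟩
    obtain ⟨w, -, hw⟩ := hlift z hz
    exact ⟨w, hw.trans (congrArg f₁.toNormalization (Subtype.ext hzx))⟩
  have hFc : IsCompact F := by
    have : F = pullback.fst f₁.fromNormalization (i ∣_ c.U) ⁻¹' T := by
      refine subset_antisymm Set.inter_subset_right fun w hw => ⟨?_, hw⟩
      obtain ⟨x, ⟨z, hz, hzx⟩, hx⟩ := hw
      obtain ⟨w', hw', hw''⟩ := hlift z hz
      have : w = w' := (pullback.fst f₁.fromNormalization (i ∣_ c.U)).isClosedEmbedding.injective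
        (hx.symm.trans ((congrArg f₁.toNormalization (Subtype.ext hzx.symm)).trans hw''.symm))
      subst this; exact hw'
    rw [this]
    exact (pullback.fst f₁.fromNormalization (i ∣_ c.U)).isClosedEmbedding.isInducing.isCompact_preimage' hTc hTr
  obtain ⟨s, hs₁, hs₂⟩ := exists_basicOpen_of_fibre (pullback.fst f₁.fromNormalization (i ∣_ c.U)) π ⟨g y', hc⟩
    f₁.toNormalization.opensRange F hFc (fun w hw => hw.1) (fun w hw => by
      obtain ⟨x, -, hx⟩ := hw.2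
      exact ⟨x, hx⟩)
  refine ⟨O.ι ''ᵁ (f₁.toNormalization ⁻¹ᵁ f₁.normalization.basicOpen s),
    (((isAffineOpen_top f₁.normalization).basicOpen s).preimage_of_isOpenImmersion f₁.toNormalization hs₁).image_of_isOpenImmersion O.ι,
    fun z hz => ?_⟩
  obtain ⟨w, hw₁, hw₂⟩ := hlift z hz
  have hwF : w ∈ F := ⟨hw₁, _, ⟨z, hz, rfl⟩, hw₂.symm⟩
  refine ⟨⟨i' z, hK₁ ⟨z, hz, rfl⟩⟩, ?_, rfl⟩
  show f₁.toNormalization _ ∈ f₁.normalization.basicOpen s
  rw [← hw₂]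
  exact hs₂ w hwF

end RingPO
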