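import Mathlib
import Groth.Prelude.Def_EtMil
import Groth.Agent.EtMil7.Flat
import Groth.Agent.EtMil7.Consequences
import Groth.Agent.RingPO.Affine

/-!
# Descent of properties of algebras along a Milnor square
-/

universe u
set_option autoImplicit false
open TensorProduct

namespace RingPO.Milnor

variable {B' B A' A : Type u} [CommRing B'] [CommRing B] [CommRing A'] [CommRing A]
  [Algebra B' B] [Algebra B' A'] [Algebra B A] [Algebra A' A] [Algebra B' A]
  [IsScalarTower B' B A] [IsScalarTower B' A' A]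
variable (hsq : EtMil.IsFibreSquare B' B A' A)

include hsq in
theorem surjective_of_pair {M N : Type u} [AddCommGroup M] [Module B' M] [AddCommGroup N] [Module B' N]
    (f : M →ₗ[B'] N) (hB : Function.Surjective (f.lTensor B)) (hA : Function.Surjective (f.lTensor A')) :
    Function.Surjective f := by
  let π := (LinearMap.range f).mkQ
  have key : ∀ (T : Type u) [CommRing T] [Algebra B' T], Function.Surjective (f.lTensor T) →
      Subsingleton (T ⊗[B'] (N ⧸ LinearMap.range f)) := fun T _ _ hT => by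
    refine subsingleton_of_forall_eq 0 fun x => ?_
    obtain ⟨y, rfl⟩ := LinearMap.lTensor_surjective T (Submodule.mkQ_surjective (LinearMap.range f)) x
    obtain ⟨z, rfl⟩ := hT y
    rw [← LinearMap.comp_apply, ← LinearMap.lTensor_comp,
      show (LinearMap.range f).mkQ ∘ₗ f = 0 from LinearMap.range_mkQ_comp f, LinearMap.lTensor_zero, LinearMap.zero_apply]
  haveI := key B hB
  haveI := key A' hA
  have := Groth.Agent.EtMil7.subsingleton_of_pair hsq (N ⧸ LinearMap.range f)
  exact LinearMap.range_eq_top.mp (Submodule.Quotient.subsingleton_iff.mp this)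

variable (D' : Type u) [CommRing D'] [Algebra B' D']

theorem map_id_eq_lTensor (T : Type u) [CommRing T] [Algebra B' T] {P : Type u} [CommRing P] [Algebra B' P]
    (φ : P →ₐ[B'] D') (x : T ⊗[B'] P) :
    Algebra.TensorProduct.map (AlgHom.id T T) φ x = φ.toLinearMap.lTensor T x := by
  induction x using TensorProduct.induction_on with
  | zero => simp
  | tmul a b => simp
  | add x y hx hy => simp only [map_add, hx, hy]

theorem exists_generators (T : Type u) [CommRing T] [Algebra B' T] [hT : Algebra.FiniteType T (T ⊗[B'] D')] :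
    ∃ s : Finset D', ∀ {P : Type u} [CommRing P] [Algebra B' P] (φ : P →ₐ[B'] D'), (s : Set D') ⊆ Set.range φ →
      Function.Surjective (φ.toLinearMap.lTensor T) := by
  classical
  obtain ⟨t, ht⟩ := hT.out
  choose S hS using fun x : T ⊗[B'] D' => TensorProduct.exists_finset x
  refine ⟨t.biUnion fun x => (S x).image Prod.snd, fun {P} _ _ φ hφ => ?_⟩
  have htop : (Algebra.TensorProduct.map (AlgHom.id T T) φ).range = ⊤ := by
    refine eq_top_iff.mpr (ht ▸ Algebra.adjoin_le fun x hx => ?_)
    rw [hS x]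
    refine Subalgebra.sum_mem _ fun i hi => ?_
    obtain ⟨p, hp⟩ := hφ (Finset.mem_biUnion.mpr ⟨x, hx, Finset.mem_image.mpr ⟨i, hi, rfl⟩⟩)
    exact ⟨i.1 ⊗ₜ p, by simp [hp]⟩
  intro x
  obtain ⟨y, hy⟩ : x ∈ (Algebra.TensorProduct.map (AlgHom.id T T) φ).range := htop ▸ Algebra.mem_top
  exact ⟨y, (map_id_eq_lTensor D' T φ y).symm.trans hy⟩

include hsq in
theorem exists_presentation [Algebra.FiniteType B (B ⊗[B'] D')] [Algebra.FiniteType A' (A' ⊗[B'] D')] :
    ∃ s : Finset D', Function.Surjective (MvPolynomial.aeval (R := B') ((↑) : s → D')) := by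
  classical
  obtain ⟨s₁, h₁⟩ := exists_generators (B' := B') D' B
  obtain ⟨s₂, h₂⟩ := exists_generators (B' := B') D' A'
  refine ⟨s₁ ∪ s₂, surjective_of_pair hsq (MvPolynomial.aeval (R := B') ((↑) : ↥(s₁ ∪ s₂) → D')).toLinearMap
    (h₁ _ fun x hx => ?_) (h₂ _ fun x hx => ?_)⟩
  · exact ⟨MvPolynomial.X ⟨x, Finset.mem_union_left _ hx⟩, by simp⟩
  · exact ⟨MvPolynomial.X ⟨x, Finset.mem_union_right _ hx⟩, by simp⟩

include hsq in
theorem finiteType_of_pair [Algebra.FiniteType B (B ⊗[B'] D')] [Algebra.FiniteType A' (A' ⊗[B'] D')] :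
    Algebra.FiniteType B' D' := by
  obtain ⟨s, hs⟩ := exists_presentation hsq D'
  exact Algebra.FiniteType.of_surjective _ hs

theorem exists_kernel_generators (T : Type u) [CommRing T] [Algebra B' T]
    [Algebra.FinitePresentation T (T ⊗[B'] D')] {σ : Type u} [Finite σ] (φ : MvPolynomial σ B' →ₐ[B'] D')
    (hφ : Function.Surjective φ) :
    ∃ t : Finset (MvPolynomial σ B'), (∀ k ∈ t, φ k = 0) ∧
      RingHom.ker (Algebra.TensorProduct.map (AlgHom.id T T) φ) ≤
        (Ideal.span (t : Set (MvPolynomial σ B'))).map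
          (Algebra.TensorProduct.includeRight : MvPolynomial σ B' →ₐ[B'] T ⊗[B'] MvPolynomial σ B') := by
  classical
  set F := Algebra.TensorProduct.map (AlgHom.id T T) φ
  have hF : Function.Surjective F := fun x => by
    obtain ⟨y, hy⟩ := LinearMap.lTensor_surjective T (show Function.Surjective φ.toLinearMap from hφ) x
    exact ⟨y, (map_id_eq_lTensor D' T φ y).trans hy⟩
  have hfg : (RingHom.ker F).FG := Algebra.FinitePresentation.ker_fG_of_surjective F hF
  have hker : RingHom.ker F = Ideal.span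
      ((Algebra.TensorProduct.includeRight : MvPolynomial σ B' →ₐ[B'] T ⊗[B'] MvPolynomial σ B') ''
        (RingHom.ker φ : Set (MvPolynomial σ B'))) := by
    have h := Algebra.TensorProduct.lTensor_ker (A := T) φ hφ
    rw [Ideal.map] at h
    rw [← h]
    rfl
  rw [hker] at hfg
  obtain ⟨u, hu, hu'⟩ := (Submodule.fg_span_iff_fg_span_finset_subset _).mp hfg
  obtain ⟨t, ht, rfl⟩ := Finset.subset_set_image_iff.mp hu
  refine ⟨t, fun k hk => ht hk, ?_⟩
  rw [hker, Ideal.map_span]
  rw [Finset.coe_image] at hu'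
  exact le_of_eq hu'

include hsq in
theorem finitePresentation_of_pair [Module.Flat B' D'] [Algebra.FinitePresentation B (B ⊗[B'] D')]
    [Algebra.FinitePresentation A' (A' ⊗[B'] D')] : Algebra.FinitePresentation B' D' := by
  classical
  obtain ⟨s, hs⟩ := exists_presentation hsq D'
  set φ := MvPolynomial.aeval (R := B') ((↑) : s → D')
  obtain ⟨t₁, ht₁, hk₁⟩ := exists_kernel_generators D' B φ hs
  obtain ⟨t₂, ht₂, hk₂⟩ := exists_kernel_generators D' A' φ hs
  set I : Ideal (MvPolynomial s B') := Ideal.span ↑(t₁ ∪ t₂)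
  have hI : I ≤ RingHom.ker φ := Ideal.span_le.mpr fun k hk =>
    (Finset.mem_union.mp hk).elim (fun h => ht₁ k h) (fun h => ht₂ k h)
  let ψ : (MvPolynomial s B' ⧸ I) →ₐ[B'] D' := Ideal.Quotient.liftₐ I φ hI
  have hψ : Function.Surjective ψ := fun x => by
    obtain ⟨y, rfl⟩ := hs x
    exact ⟨Ideal.Quotient.mk I y, rfl⟩
  have key : ∀ (T : Type u) [CommRing T] [Algebra B' T],
      RingHom.ker (Algebra.TensorProduct.map (AlgHom.id T T) φ) ≤
        I.map (Algebra.TensorProduct.includeRight : MvPolynomial s B' →ₐ[B'] T ⊗[B'] MvPolynomial s B') →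
      Subsingleton (T ⊗[B'] LinearMap.ker ψ.toLinearMap) := by
    intro T _ _ hT
    have hinj : Function.Injective ((LinearMap.ker ψ.toLinearMap).subtype.lTensor T) :=
      LinearMap.lTensor_injective_of_exact_of_flat ψ.toLinearMap hψ _ Subtype.val_injective
        (LinearMap.exact_subtype_ker_map _) T
    refine subsingleton_of_forall_eq 0 fun x => hinj ?_
    rw [map_zero]
    set z := (LinearMap.ker ψ.toLinearMap).subtype.lTensor T x
    have hz : Algebra.TensorProduct.map (AlgHom.id T T) ψ z = 0 := by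
      rw [map_id_eq_lTensor, ← LinearMap.comp_apply, ← LinearMap.lTensor_comp,
        show ψ.toLinearMap ∘ₗ (LinearMap.ker ψ.toLinearMap).subtype = 0 from LinearMap.ext fun k => k.2,
        LinearMap.lTensor_zero, LinearMap.zero_apply]
    obtain ⟨y, hy⟩ := LinearMap.lTensor_surjective T
      (show Function.Surjective (Ideal.Quotient.mkₐ B' I).toLinearMap from Ideal.Quotient.mk_surjective) z
    rw [← map_id_eq_lTensor] at hy
    have hyk : y ∈ RingHom.ker (Algebra.TensorProduct.map (AlgHom.id T T) φ) := by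
      rw [RingHom.mem_ker, ← hz, ← hy, ← AlgHom.comp_apply]
      congr 1
      exact Algebra.TensorProduct.ext' fun a b => rfl
    have hle : I.map (Algebra.TensorProduct.includeRight : MvPolynomial s B' →ₐ[B'] T ⊗[B'] MvPolynomial s B') ≤
        RingHom.ker (Algebra.TensorProduct.map (AlgHom.id T T) (Ideal.Quotient.mkₐ B' I)) := by
      refine Ideal.map_le_iff_le_comap.mpr fun k hk => ?_
      show (1 : T) ⊗ₜ[B'] Ideal.Quotient.mk I k = 0
      rw [Ideal.Quotient.eq_zero_iff_mem.mpr hk, TensorProduct.tmul_zero]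
    rw [← hy]
    exact hle (hT hyk)
  haveI := key B (hk₁.trans (Ideal.map_mono (Ideal.span_mono (by simp))))
  haveI := key A' (hk₂.trans (Ideal.map_mono (Ideal.span_mono (by simp))))
  have h0 := Groth.Agent.EtMil7.subsingleton_of_pair hsq (LinearMap.ker ψ.toLinearMap)
  have hinj : Function.Injective ψ.toLinearMap :=
    LinearMap.ker_eq_bot.mp (Submodule.subsingleton_iff_eq_bot.mp h0)
  have : Algebra.FinitePresentation B' (MvPolynomial s B' ⧸ I) :=
    Algebra.FinitePresentation.quotient ⟨t₁ ∪ t₂, rfl⟩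
  exact Algebra.FinitePresentation.equiv (AlgEquiv.ofBijective ψ ⟨hinj, hψ⟩)

include hsq in
theorem exists_prime_over (p : Ideal B') [p.IsPrime] :
    (∃ P : PrimeSpectrum B, P.asIdeal.comap (algebraMap B' B) = p) ∨
      (∃ P : PrimeSpectrum A', P.asIdeal.comap (algebraMap B' A') = p) := by
  have h : RingPO.IsFibreProd (algebraMap A' A) (algebraMap B A) (algebraMap B' A') (algebraMap B' B) :=
    { surj := hsq.1
      comm := fun z => by rw [← IsScalarTower.algebraMap_apply, ← IsScalarTower.algebraMap_apply]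
      ext := fun z z' h h' => Groth.Agent.EtMil7.eq_of_square hsq h' h
      exists_of_eq := fun b a e => by
        obtain ⟨z, ⟨h, h'⟩, -⟩ := hsq.2 b a e.symm
        exact ⟨z, h', h⟩ }
  rcases h.exists_preimage ⟨p, ‹_›⟩ with ⟨P, hP⟩ | ⟨P, hP⟩
  · exact Or.inl ⟨P, congrArg PrimeSpectrum.asIdeal hP⟩
  · exact Or.inr ⟨P, congrArg PrimeSpectrum.asIdeal hP⟩

theorem smooth_fibre (p : Ideal B') [p.IsPrime] (T : Type u) [CommRing T] [Algebra B' T]
    (P : Ideal T) [P.IsPrime] (hP : P.comap (algebraMap B' T) = p) [Algebra.Smooth T (T ⊗[B'] D')] :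
    Algebra.Smooth p.ResidueField (p.Fiber D') := by
  letI : Algebra p.ResidueField P.ResidueField := (Ideal.ResidueField.map p P (algebraMap B' T) hP.symm).toAlgebra
  haveI : IsScalarTower B' p.ResidueField P.ResidueField := IsScalarTower.of_algebraMap_eq fun r => by
    rw [RingHom.algebraMap_toAlgebra, Ideal.ResidueField.map_algebraMap]
    exact IsScalarTower.algebraMap_apply B' T P.ResidueField r
  haveI : Algebra.Smooth P.ResidueField (P.ResidueField ⊗[p.ResidueField] p.Fiber D') :=
    Algebra.Smooth.of_equiv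
      ((Algebra.TensorProduct.cancelBaseChange B' T P.ResidueField P.ResidueField D').trans
        (Algebra.TensorProduct.cancelBaseChange B' p.ResidueField P.ResidueField P.ResidueField D').symm)
  exact Algebra.Smooth.of_smooth_tensorProduct_of_faithfullyFlat P.ResidueField

include hsq in
theorem smooth_of_pair [Algebra.Smooth B (B ⊗[B'] D')] [Algebra.Smooth A' (A' ⊗[B'] D')] :
    Algebra.Smooth B' D' := by
  haveI : Module.Flat B' D' := Groth.Agent.EtMil7.flat_of_flat_baseChange_pair (P := D') hsq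
  haveI := finitePresentation_of_pair hsq D'
  refine Algebra.Smooth.of_formallySmooth_fiber fun p _ => ?_
  rcases exists_prime_over hsq p with ⟨P, hP⟩ | ⟨P, hP⟩
  · haveI := smooth_fibre D' p B P.asIdeal hP
    infer_instance
  · haveI := smooth_fibre D' p A' P.asIdeal hP
    infer_instance

include hsq in
theorem formallyUnramified_of_pair [Algebra.FormallyUnramified B (B ⊗[B'] D')]
    [Algebra.FormallyUnramified A' (A' ⊗[B'] D')] : Algebra.FormallyUnramified B' D' := by
  have key : ∀ (T : Type u) [CommRing T] [Algebra B' T] [Algebra.FormallyUnramified T (T ⊗[B'] D')],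
      Subsingleton (T ⊗[B'] Ω[D'⁄B']) := fun T _ _ _ => by
    let _ : Algebra D' (T ⊗[B'] D') := Algebra.TensorProduct.rightAlgebra
    exact (KaehlerDifferential.tensorKaehlerEquivBase B' T D' (T ⊗[B'] D')).subsingleton
  haveI := key B
  haveI := key A'
  exact ⟨Groth.Agent.EtMil7.subsingleton_of_pair hsq Ω[D'⁄B']⟩

include hsq in
theorem etale_of_pair [Algebra.Etale B (B ⊗[B'] D')] [Algebra.Etale A' (A' ⊗[B'] D')] :
    Algebra.Etale B' D' := by
  haveI : Algebra.Smooth B' D' := smooth_of_pair hsq D'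
  rw [Algebra.Etale.iff_formallyUnramified_and_smooth]
  exact ⟨formallyUnramified_of_pair hsq D', inferInstance⟩

end RingPO.Milnor
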