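import Mathlib
import Groth.Prelude.Def_EtMil
import Groth.Agent.EtMil7.Basic
import Groth.Agent.RingPO.Milnor

/-!
# Fibre squares over fibre squares
-/

universe u
set_option autoImplicit false
open TensorProduct

namespace RingPO.Milnor

variable {B' B A' A : Type u} [CommRing B'] [CommRing B] [CommRing A'] [CommRing A]
  [Algebra B' B] [Algebra B' A'] [Algebra B A] [Algebra A' A] [Algebra B' A]
  [IsScalarTower B' B A] [IsScalarTower B' A' A]
variable {D' D C' C : Type u} [CommRing D'] [CommRing D] [CommRing C'] [CommRing C]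
  [Algebra D' D] [Algebra D' C'] [Algebra D C] [Algebra C' C] [Algebra D' C] [IsScalarTower D' D C] [IsScalarTower D' C' C]
  [Algebra B' D'] [Algebra B D] [Algebra A' C'] [Algebra A C]
  [Algebra B' D] [IsScalarTower B' B D] [IsScalarTower B' D' D]
  [Algebra B' C'] [IsScalarTower B' A' C'] [IsScalarTower B' D' C']
  [Algebra B C] [IsScalarTower B A C] [IsScalarTower B D C]
  [Algebra A' C] [IsScalarTower A' A C] [IsScalarTower A' C' C]

theorem isPushout_legs (hsq : EtMil.IsFibreSquare B' B A' A) (hsq' : EtMil.IsFibreSquare D' D C' C)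
    [Algebra.IsPushout B D A C] [Algebra.IsPushout A' C' A C] :
    Algebra.IsPushout B' B D' D ∧ Algebra.IsPushout B' A' D' C' := by
  haveI : Algebra.IsPushout B A D C := .symm inferInstance
  haveI : Algebra.IsPushout A' A C' C := .symm inferInstance
  let e₁ : A ⊗[B] D ≃ₐ[A] C := Algebra.IsPushout.equiv B A D C
  let e₂ : A ⊗[A'] C' ≃ₐ[A] C := Algebra.IsPushout.equiv A' A C' C
  let φ : A ⊗[B] D ≃ₗ[A] A ⊗[A'] C' := (e₁.trans e₂.symm).toLinearEquiv
  have hmem : ∀ x : D × C', x ∈ EtMil.glue B' φ ↔ algebraMap D C x.1 = algebraMap C' C x.2 := by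
    intro x
    rw [Groth.Agent.EtMil7.mem_glue]
    show e₂.symm (e₁ ((1 : A) ⊗ₜ[B] x.1)) = (1 : A) ⊗ₜ[A'] x.2 ↔ _
    rw [AlgEquiv.symm_apply_eq, Algebra.IsPushout.equiv_tmul, Algebra.IsPushout.equiv_tmul, map_one, one_mul, one_mul]
  let g : D' →ₗ[B'] EtMil.glue B' φ :=
    ((IsScalarTower.toAlgHom B' D' D).toLinearMap.prod (IsScalarTower.toAlgHom B' D' C').toLinearMap).codRestrict _
      (fun d => (hmem _).mpr (by
        show algebraMap D C (algebraMap D' D d) = algebraMap C' C (algebraMap D' C' d)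
        rw [← IsScalarTower.algebraMap_apply, ← IsScalarTower.algebraMap_apply]))
  have hg : Function.Bijective g := by
    refine ⟨fun x y hxy => Groth.Agent.EtMil7.eq_of_square hsq' (congrArg (fun z => z.1.1) hxy) (congrArg (fun z => z.1.2) hxy), fun z => ?_⟩
    obtain ⟨d, ⟨h₁, h₂⟩, -⟩ := hsq'.2 z.1.1 z.1.2 ((hmem _).mp z.2)
    exact ⟨d, Subtype.ext (Prod.ext h₁ h₂)⟩
  let G := LinearEquiv.ofBijective g hg
  have hw := Groth.Agent.EtMil7.isWeakSquare hsq
  constructor
  · let F := (TensorProduct.AlgebraTensorModule.congr (LinearEquiv.refl B B) G).trans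
      (LinearEquiv.ofBijective _ (Groth.Agent.EtMil7.bijective_liftBaseChange_glueFst φ hw))
    exact ⟨IsBaseChange.of_equiv F fun d => by
      show LinearMap.liftBaseChange B (EtMil.glueFst B' φ) ((1 : B) ⊗ₜ[B'] g d) = algebraMap D' D d
      rw [LinearMap.liftBaseChange_tmul, one_smul]
      rfl⟩
  · let F := (TensorProduct.AlgebraTensorModule.congr (LinearEquiv.refl A' A') G).trans
      (LinearEquiv.ofBijective _ (Groth.Agent.EtMil7.bijective_liftBaseChange_glueSnd φ hw))
    exact ⟨IsBaseChange.of_equiv F fun d => by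
      show LinearMap.liftBaseChange A' (EtMil.glueSnd B' φ) ((1 : A') ⊗ₜ[B'] g d) = algebraMap D' C' d
      rw [LinearMap.liftBaseChange_tmul, one_smul]
      rfl⟩

end RingPO.Milnor
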