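import Mathlib
import Groth.Agent.RingPO.BaseChange

universe u
set_option autoImplicit false
open AlgebraicGeometry CategoryTheory CategoryTheory.Limits TopologicalSpace Opposite

namespace RingPO

variable {X Y Z P S : Scheme.{u}} {i : Z ⟶ X} {j : Z ⟶ Y} {a : X ⟶ P} {b : Y ⟶ P} [IsClosedImmersion i]

theorem exists_preimage_point (h : IsPushout i j a b) (hY : ∀ y : Y, ∃ c : Chart i j, y ∈ c.V) (x : P) :
    x ∈ Set.range a ∪ Set.range b := by
  obtain ⟨φ, hφ, hcov, h1, h2, h3, h4⟩ := exists_fibreProd_chart h hY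
  obtain ⟨c, z, rfl⟩ := hcov x
  rcases c.isFibreProd.exists_preimage z with ⟨y, rfl⟩ | ⟨y, rfl⟩
  · exact Or.inr ⟨c.hV.fromSpec y, congr($(h2 c) y)⟩
  · exact Or.inl ⟨c.hU.fromSpec y, congr($(h1 c) y)⟩

theorem diagonal_map {W : Scheme.{u}} (f : W ⟶ P) {p : W ⟶ S} {r : P ⟶ S} (hp : f ≫ r = p) :
    pullback.diagonal p ≫ pullback.map p p r r f f (𝟙 S) ((Category.comp_id p).trans hp.symm)
      ((Category.comp_id p).trans hp.symm) = f ≫ pullback.diagonal r := by
  refine pullback.hom_ext ?_ ?_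
  · rw [Category.assoc, Category.assoc, pullback.diagonal_fst, Category.comp_id f]
    erw [pullback.lift_fst]
    rw [pullback.diagonal_fst_assoc]
  · rw [Category.assoc, Category.assoc, pullback.diagonal_snd, Category.comp_id f]
    erw [pullback.lift_snd]
    rw [pullback.diagonal_snd_assoc]

theorem preimage_diagonal (h : IsPushout i j a b) (hY : ∀ y : Y, ∃ c : Chart i j, y ∈ c.V) (r : P ⟶ S)
    (K : Set ↥(pullback.diagonalObj r)) :
    pullback.diagonal r ⁻¹' K =
      a '' ((a ≫ pullback.diagonal r) ⁻¹' K) ∪ b '' ((b ≫ pullback.diagonal r) ⁻¹' K) := by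
  refine subset_antisymm (fun x hx => ?_) ?_
  · rcases exists_preimage_point h hY x with ⟨y, rfl⟩ | ⟨y, rfl⟩
    · exact Or.inl ⟨y, hx, rfl⟩
    · exact Or.inr ⟨y, hx, rfl⟩
  · rintro _ (⟨y, hy, rfl⟩ | ⟨y, hy, rfl⟩) <;> exact hy

theorem isIntegralHom_map {W : Scheme.{u}} (f : W ⟶ P) [IsIntegralHom f] {p : W ⟶ S} {r : P ⟶ S} (hp : f ≫ r = p) :
    IsIntegralHom (pullback.map p p r r f f (𝟙 S) ((Category.comp_id p).trans hp.symm)
      ((Category.comp_id p).trans hp.symm)) :=
  MorphismProperty.pullbackMap (P := @IsIntegralHom) ‹_› ‹_› hp.symm hp.symm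

theorem isSeparated_of_isPushout [IsIntegralHom j] (h : IsPushout i j a b) (hY : ∀ y : Y, ∃ c : Chart i j, y ∈ c.V)
    (r : P ⟶ S) [IsSeparated (a ≫ r)] [IsSeparated (b ≫ r)] : IsSeparated r := by
  haveI := isIntegralHom_inl h hY
  haveI := isClosedImmersion_inr h hY
  refine (isSeparated_iff r).mpr (IsClosedImmersion.of_isPreimmersion _ ?_)
  have hr : Set.range (pullback.diagonal r) =
      Set.range (a ≫ pullback.diagonal r) ∪ Set.range (b ≫ pullback.diagonal r) := by
    refine subset_antisymm ?_ ?_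
    · rintro _ ⟨x, rfl⟩
      rcases exists_preimage_point h hY x with ⟨y, rfl⟩ | ⟨y, rfl⟩
      · exact Or.inl ⟨y, rfl⟩
      · exact Or.inr ⟨y, rfl⟩
    · rintro _ (⟨y, rfl⟩ | ⟨y, rfl⟩) <;> exact ⟨_, rfl⟩
  rw [hr]
  haveI := isIntegralHom_map a (p := a ≫ r) (r := r) rfl
  haveI := isIntegralHom_map b (p := b ≫ r) (r := r) rfl
  refine IsClosed.union ?_ ?_
  · rw [← diagonal_map a (p := a ≫ r) rfl]
    exact (Scheme.Hom.isClosedMap _).isClosed_range
  · rw [← diagonal_map b (p := b ≫ r) rfl]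
    exact (Scheme.Hom.isClosedMap _).isClosed_range

theorem quasiSeparated_of_isPushout [IsIntegralHom j] (h : IsPushout i j a b) (hY : ∀ y : Y, ∃ c : Chart i j, y ∈ c.V)
    (r : P ⟶ S) [QuasiSeparated (a ≫ r)] [QuasiSeparated (b ≫ r)] : QuasiSeparated r := by
  haveI := isIntegralHom_inl h hY
  haveI := isClosedImmersion_inr h hY
  refine (quasiSeparated_iff r).mpr ((quasiCompact_iff _).mpr fun K hK hKc => ?_)
  rw [preimage_diagonal h hY r K]
  haveI := isIntegralHom_map a (p := a ≫ r) (r := r) rfl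
  haveI := isIntegralHom_map b (p := b ≫ r) (r := r) rfl
  haveI : QuasiCompact (a ≫ pullback.diagonal r) := by rw [← diagonal_map a (p := a ≫ r) rfl]; infer_instance
  haveI : QuasiCompact (b ≫ pullback.diagonal r) := by rw [← diagonal_map b (p := b ≫ r) rfl]; infer_instance
  exact ((QuasiCompact.isCompact_preimage (f := a ≫ pullback.diagonal r) _ hK hKc).image a.continuous).union
    ((QuasiCompact.isCompact_preimage (f := b ≫ pullback.diagonal r) _ hK hKc).image b.continuous)

theorem finiteType_fibreProd {R A A' B C : Type u} [CommRing R] [IsNoetherianRing R] [CommRing A] [CommRing A']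
    [CommRing B] [CommRing C] {p : A' →+* A} {q : B →+* A} {α : C →+* A'} {β : C →+* B}
    (h : IsFibreProd p q α β) (ρ : R →+* C) (hq : q.IsIntegral) (hA : (α.comp ρ).FiniteType)
    (hB : (β.comp ρ).FiniteType) : ρ.FiniteType := by
  letI := ρ.toAlgebra
  letI := α.toAlgebra
  letI := β.toAlgebra
  letI := (α.comp ρ).toAlgebra
  letI := (β.comp ρ).toAlgebra
  haveI : IsScalarTower R C A' := IsScalarTower.of_algebraMap_eq' rfl
  haveI : IsScalarTower R C B := IsScalarTower.of_algebraMap_eq' rfl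
  haveI : Algebra.FiniteType R A' := hA
  haveI : Algebra.FiniteType R B := hB
  haveI : Algebra.FiniteType R (A' × B) := inferInstance
  haveI : Algebra.FiniteType C (A' × B) := Algebra.FiniteType.of_restrictScalars_finiteType R C (A' × B)
  haveI : Algebra.IsIntegral C A' := algebraMap_isIntegral_iff.mp (isIntegral_alpha h hq)
  haveI : Algebra.IsIntegral C B := algebraMap_isIntegral_iff.mp (RingHom.isIntegral_of_surjective β h.beta_surjective)
  haveI : Module.Finite C (A' × B) := Algebra.IsIntegral.finite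
  have : (⊤ : Subalgebra R C).FG := fg_of_fg_of_fg R C (A' × B) Algebra.FiniteType.out Module.Finite.fg_top
    (fun z z' hz => h.ext z z' (congrArg Prod.fst hz) (congrArg Prod.snd hz))
  exact ⟨this⟩

theorem locallyOfFiniteType_of_isPushout [IsIntegralHom j] (h : IsPushout i j a b)
    (hY : ∀ y : Y, ∃ c : Chart i j, y ∈ c.V) (r : P ⟶ S) [IsLocallyNoetherian S] [LocallyOfFiniteType (a ≫ r)]
    [LocallyOfFiniteType (b ≫ r)] : LocallyOfFiniteType r := by
  haveI := isAffineHom_inl h hY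
  haveI := isClosedImmersion_inr h hY
  refine (HasRingHomProperty.iff_appLE (P := @LocallyOfFiniteType) (f := r)).mpr fun Sa U e => ?_
  have hF := isFibreProd_of_affineOpen h hY U.2
  haveI : IsNoetherianRing Γ(S, Sa) := IsLocallyNoetherian.component_noetherian Sa
  refine finiteType_fibreProd hF (r.appLE Sa U e).hom ?_ ?_ ?_
  · set c := chartOver h U.2
    show (j.appLE c.V (i ⁻¹ᵁ c.U) c.eq.le).hom.IsIntegral
    rw [Scheme.Hom.appLE, CommRingCat.hom_comp]
    exact RingHom.IsIntegral.trans _ _ (IsIntegralHom.isIntegral_app j c.V c.hV) (RingHom.isIntegral_of_surjective _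
      ((ConcreteCategory.bijective_of_isIso (Z.presheaf.map (eqToHom c.eq).op)).2))
  · have h1 := HasRingHomProperty.appLE @LocallyOfFiniteType (a ≫ r) inferInstance Sa ⟨_, U.2.preimage a⟩ (fun z hz => e hz)
    rw [← Scheme.Hom.appLE_comp_appLE a r Sa.1 U.1 (a ⁻¹ᵁ U.1) e le_rfl] at h1
    exact h1
  · have h1 := HasRingHomProperty.appLE @LocallyOfFiniteType (b ≫ r) inferInstance Sa ⟨_, U.2.preimage b⟩ (fun z hz => e hz)
    rw [← Scheme.Hom.appLE_comp_appLE b r Sa.1 U.1 (b ⁻¹ᵁ U.1) e le_rfl] at h1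
    exact h1

end RingPO
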