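import Mathlib
import Groth.Agent.RingPO.Props2
import Groth.Agent.RingPO.MilnorSquare

/-!
# Morphisms of pushouts of cartesian squares: base change of the pieces
-/

universe u
set_option autoImplicit false
open AlgebraicGeometry CategoryTheory CategoryTheory.Limits TopologicalSpace Opposite TensorProduct

namespace RingPO

namespace Milnor

variable {B' B A' A : Type u} [CommRing B'] [CommRing B] [CommRing A'] [CommRing A]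
  [Algebra B' B] [Algebra B' A'] [Algebra B A] [Algebra A' A] [Algebra B' A]
  [IsScalarTower B' B A] [IsScalarTower B' A' A]

theorem finite_fibre (D' : Type u) [CommRing D'] [Algebra B' D'] (p : Ideal B') [p.IsPrime] (T : Type u) [CommRing T]
    [Algebra B' T] (P : Ideal T) [P.IsPrime] (hP : P.comap (algebraMap B' T) = p)
    [Algebra.QuasiFinite T (T ⊗[B'] D')] : Module.Finite p.ResidueField (p.Fiber D') := by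
  letI : Algebra p.ResidueField P.ResidueField := (Ideal.ResidueField.map p P (algebraMap B' T) hP.symm).toAlgebra
  haveI : IsScalarTower B' p.ResidueField P.ResidueField := IsScalarTower.of_algebraMap_eq fun r => by
    rw [RingHom.algebraMap_toAlgebra, Ideal.ResidueField.map_algebraMap]
    exact IsScalarTower.algebraMap_apply B' T P.ResidueField r
  haveI : Module.Finite P.ResidueField (P.ResidueField ⊗[p.ResidueField] p.Fiber D') :=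
    Module.Finite.equiv
      ((Algebra.TensorProduct.cancelBaseChange B' T P.ResidueField P.ResidueField D').trans
        (Algebra.TensorProduct.cancelBaseChange B' p.ResidueField P.ResidueField P.ResidueField D').symm).toLinearEquiv
  exact Module.Finite.of_finite_tensorProduct_of_faithfullyFlat P.ResidueField

/-- Quasi-finiteness descends along a Milnor square. -/
theorem quasiFinite_of_pair (hsq : EtMil.IsFibreSquare B' B A' A) (D' : Type u) [CommRing D'] [Algebra B' D']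
    [Algebra.QuasiFinite B (B ⊗[B'] D')] [Algebra.QuasiFinite A' (A' ⊗[B'] D')] : Algebra.QuasiFinite B' D' := by
  refine ⟨fun p _ => ?_⟩
  rcases exists_prime_over hsq p with ⟨P, hP⟩ | ⟨P, hP⟩
  · exact finite_fibre D' p B P.asIdeal hP
  · exact finite_fibre D' p A' P.asIdeal hP

end Milnor

section chart

variable {X Y Z P X' Y' Z' P' : Scheme.{u}} {i : Z ⟶ X} [IsClosedImmersion i] {j : Z ⟶ Y} [IsAffineHom j]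
  {a : X ⟶ P} {b : Y ⟶ P} [IsAffineHom a] [IsAffineHom b]
  {i' : Z' ⟶ X'} [IsClosedImmersion i'] {j' : Z' ⟶ Y'} [IsAffineHom j'] {a' : X' ⟶ P'} {b' : Y' ⟶ P'}
  [IsAffineHom a'] [IsAffineHom b'] {f : X' ⟶ X} {g : Y' ⟶ Y} {c : Z' ⟶ Z} {h : P' ⟶ P}

theorem chart_spec (hP : IsPushout i j a b) (hcP : ∀ y : Y, ∃ k : Chart i j, y ∈ k.V) (hP' : IsPushout i' j' a' b')
    (hcP' : ∀ y : Y', ∃ k : Chart i' j', y ∈ k.V) (hX : IsPullback i' c f i) (hY : IsPullback j' c g j)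
    (ha : a' ≫ h = f ≫ a) (hb : b' ≫ h = g ≫ b) (U : P.affineOpens) (U' : P'.affineOpens) (e : U'.1 ≤ h ⁻¹ᵁ U.1)
    (e₁ : a' ⁻¹ᵁ U'.1 ≤ f ⁻¹ᵁ a ⁻¹ᵁ U.1) (e₂ : b' ⁻¹ᵁ U'.1 ≤ g ⁻¹ᵁ b ⁻¹ᵁ U.1) :
    IsPushout (b.appLE U (b ⁻¹ᵁ U.1) le_rfl) (h.appLE U U' e) (g.appLE (b ⁻¹ᵁ U.1) (b' ⁻¹ᵁ U'.1) e₂)
        (b'.appLE U' (b' ⁻¹ᵁ U'.1) le_rfl) ∧
      IsPushout (a.appLE U (a ⁻¹ᵁ U.1) le_rfl) (h.appLE U U' e) (f.appLE (a ⁻¹ᵁ U.1) (a' ⁻¹ᵁ U'.1) e₁)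
        (a'.appLE U' (a' ⁻¹ᵁ U'.1) le_rfl) ∧
      ((f.appLE (a ⁻¹ᵁ U.1) (a' ⁻¹ᵁ U'.1) e₁).hom.FiniteType → (g.appLE (b ⁻¹ᵁ U.1) (b' ⁻¹ᵁ U'.1) e₂).hom.FiniteType →
        (h.appLE U U' e).hom.FiniteType) ∧
      ((f.appLE (a ⁻¹ᵁ U.1) (a' ⁻¹ᵁ U'.1) e₁).hom.QuasiFinite → (g.appLE (b ⁻¹ᵁ U.1) (b' ⁻¹ᵁ U'.1) e₂).hom.QuasiFinite →
        (h.appLE U U' e).hom.QuasiFinite) := by
  have hF := isFibreProd_of_affineOpen hP hcP U.2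
  have hF' := isFibreProd_of_affineOpen hP' hcP' U'.2
  set W : Z.Opens := i ⁻¹ᵁ a ⁻¹ᵁ U.1 with hW
  set W' : Z'.Opens := i' ⁻¹ᵁ a' ⁻¹ᵁ U'.1 with hW'
  have hWA : IsAffineOpen W := (U.2.preimage a).preimage i
  have hWA' : IsAffineOpen W' := (U'.2.preimage a').preimage i'
  have eW : W = j ⁻¹ᵁ b ⁻¹ᵁ U.1 := by
    rw [hW, ← Scheme.Hom.comp_preimage, hP.w, Scheme.Hom.comp_preimage]
  have eW' : W' = j' ⁻¹ᵁ b' ⁻¹ᵁ U'.1 := by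
    rw [hW', ← Scheme.Hom.comp_preimage, hP'.w, Scheme.Hom.comp_preimage]
  have ec : W' ≤ c ⁻¹ᵁ W := by
    rw [hW, hW', ← Scheme.Hom.comp_preimage c i, ← hX.w, Scheme.Hom.comp_preimage]
    exact i'.preimage_mono e₁
  have hF2 : IsFibreProd (i.appLE (a ⁻¹ᵁ U.1) W le_rfl).hom (j.appLE (b ⁻¹ᵁ U.1) W eW.le).hom
      (a.appLE U (a ⁻¹ᵁ U.1) le_rfl).hom (b.appLE U (b ⁻¹ᵁ U.1) le_rfl).hom := hF
  have hF2' : IsFibreProd (i'.appLE (a' ⁻¹ᵁ U'.1) W' le_rfl).hom (j'.appLE (b' ⁻¹ᵁ U'.1) W' eW'.le).hom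
      (a'.appLE U' (a' ⁻¹ᵁ U'.1) le_rfl).hom (b'.appLE U' (b' ⁻¹ᵁ U'.1) le_rfl).hom := hF'
  have hwY : j' ≫ g = c ≫ j := hY.w
  letI : Algebra Γ(P, U) Γ(Y, b ⁻¹ᵁ U.1) := (b.appLE U (b ⁻¹ᵁ U.1) le_rfl).hom.toAlgebra
  letI : Algebra Γ(P, U) Γ(X, a ⁻¹ᵁ U.1) := (a.appLE U (a ⁻¹ᵁ U.1) le_rfl).hom.toAlgebra
  letI : Algebra Γ(Y, b ⁻¹ᵁ U.1) Γ(Z, W) := (j.appLE (b ⁻¹ᵁ U.1) W eW.le).hom.toAlgebra
  letI : Algebra Γ(X, a ⁻¹ᵁ U.1) Γ(Z, W) := (i.appLE (a ⁻¹ᵁ U.1) W le_rfl).hom.toAlgebra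
  letI : Algebra Γ(P, U) Γ(Z, W) :=
    ((b.appLE U (b ⁻¹ᵁ U.1) le_rfl) ≫ (j.appLE (b ⁻¹ᵁ U.1) W eW.le)).hom.toAlgebra
  haveI : IsScalarTower Γ(P, U) Γ(Y, b ⁻¹ᵁ U.1) Γ(Z, W) := IsScalarTower.of_algebraMap_eq' rfl
  haveI : IsScalarTower Γ(P, U) Γ(X, a ⁻¹ᵁ U.1) Γ(Z, W) :=
    IsScalarTower.of_algebraMap_eq' (RingHom.ext fun z => (hF2.comm z).symm)
  letI : Algebra Γ(P', U') Γ(Y', b' ⁻¹ᵁ U'.1) := (b'.appLE U' (b' ⁻¹ᵁ U'.1) le_rfl).hom.toAlgebra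
  letI : Algebra Γ(P', U') Γ(X', a' ⁻¹ᵁ U'.1) := (a'.appLE U' (a' ⁻¹ᵁ U'.1) le_rfl).hom.toAlgebra
  letI : Algebra Γ(Y', b' ⁻¹ᵁ U'.1) Γ(Z', W') := (j'.appLE (b' ⁻¹ᵁ U'.1) W' eW'.le).hom.toAlgebra
  letI : Algebra Γ(X', a' ⁻¹ᵁ U'.1) Γ(Z', W') := (i'.appLE (a' ⁻¹ᵁ U'.1) W' le_rfl).hom.toAlgebra
  letI : Algebra Γ(P', U') Γ(Z', W') :=
    ((b'.appLE U' (b' ⁻¹ᵁ U'.1) le_rfl) ≫ (j'.appLE (b' ⁻¹ᵁ U'.1) W' eW'.le)).hom.toAlgebra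
  haveI : IsScalarTower Γ(P', U') Γ(Y', b' ⁻¹ᵁ U'.1) Γ(Z', W') := IsScalarTower.of_algebraMap_eq' rfl
  haveI : IsScalarTower Γ(P', U') Γ(X', a' ⁻¹ᵁ U'.1) Γ(Z', W') :=
    IsScalarTower.of_algebraMap_eq' (RingHom.ext fun z => (hF2'.comm z).symm)
  letI : Algebra Γ(P, U) Γ(P', U') := (h.appLE U U' e).hom.toAlgebra
  letI : Algebra Γ(Y, b ⁻¹ᵁ U.1) Γ(Y', b' ⁻¹ᵁ U'.1) := (g.appLE (b ⁻¹ᵁ U.1) (b' ⁻¹ᵁ U'.1) e₂).hom.toAlgebra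
  letI : Algebra Γ(X, a ⁻¹ᵁ U.1) Γ(X', a' ⁻¹ᵁ U'.1) := (f.appLE (a ⁻¹ᵁ U.1) (a' ⁻¹ᵁ U'.1) e₁).hom.toAlgebra
  letI : Algebra Γ(Z, W) Γ(Z', W') := (c.appLE W W' ec).hom.toAlgebra
  letI : Algebra Γ(P, U) Γ(Y', b' ⁻¹ᵁ U'.1) :=
    ((b.appLE U (b ⁻¹ᵁ U.1) le_rfl) ≫ (g.appLE (b ⁻¹ᵁ U.1) (b' ⁻¹ᵁ U'.1) e₂)).hom.toAlgebra
  haveI : IsScalarTower Γ(P, U) Γ(Y, b ⁻¹ᵁ U.1) Γ(Y', b' ⁻¹ᵁ U'.1) := IsScalarTower.of_algebraMap_eq' rfl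
  haveI : IsScalarTower Γ(P, U) Γ(P', U') Γ(Y', b' ⁻¹ᵁ U'.1) := IsScalarTower.of_algebraMap_eq' (by
    show ((b.appLE U (b ⁻¹ᵁ U.1) le_rfl) ≫ (g.appLE (b ⁻¹ᵁ U.1) (b' ⁻¹ᵁ U'.1) e₂)).hom =
      (h.appLE U U' e ≫ b'.appLE U' (b' ⁻¹ᵁ U'.1) le_rfl).hom
    rw [Scheme.Hom.appLE_comp_appLE, Scheme.Hom.appLE_comp_appLE]; simp only [hb])
  letI : Algebra Γ(P, U) Γ(X', a' ⁻¹ᵁ U'.1) :=
    ((a.appLE U (a ⁻¹ᵁ U.1) le_rfl) ≫ (f.appLE (a ⁻¹ᵁ U.1) (a' ⁻¹ᵁ U'.1) e₁)).hom.toAlgebra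
  haveI : IsScalarTower Γ(P, U) Γ(X, a ⁻¹ᵁ U.1) Γ(X', a' ⁻¹ᵁ U'.1) := IsScalarTower.of_algebraMap_eq' rfl
  haveI : IsScalarTower Γ(P, U) Γ(P', U') Γ(X', a' ⁻¹ᵁ U'.1) := IsScalarTower.of_algebraMap_eq' (by
    show ((a.appLE U (a ⁻¹ᵁ U.1) le_rfl) ≫ (f.appLE (a ⁻¹ᵁ U.1) (a' ⁻¹ᵁ U'.1) e₁)).hom =
      (h.appLE U U' e ≫ a'.appLE U' (a' ⁻¹ᵁ U'.1) le_rfl).hom
    rw [Scheme.Hom.appLE_comp_appLE, Scheme.Hom.appLE_comp_appLE]; simp only [ha])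
  letI : Algebra Γ(Y, b ⁻¹ᵁ U.1) Γ(Z', W') := ((j.appLE (b ⁻¹ᵁ U.1) W eW.le) ≫ c.appLE W W' ec).hom.toAlgebra
  haveI : IsScalarTower Γ(Y, b ⁻¹ᵁ U.1) Γ(Z, W) Γ(Z', W') := IsScalarTower.of_algebraMap_eq' rfl
  haveI : IsScalarTower Γ(Y, b ⁻¹ᵁ U.1) Γ(Y', b' ⁻¹ᵁ U'.1) Γ(Z', W') := IsScalarTower.of_algebraMap_eq' (by
    show ((j.appLE (b ⁻¹ᵁ U.1) W eW.le) ≫ c.appLE W W' ec).hom =
      (g.appLE (b ⁻¹ᵁ U.1) (b' ⁻¹ᵁ U'.1) e₂ ≫ j'.appLE (b' ⁻¹ᵁ U'.1) W' eW'.le).hom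
    rw [Scheme.Hom.appLE_comp_appLE, Scheme.Hom.appLE_comp_appLE]; simp only [hwY])
  letI : Algebra Γ(X, a ⁻¹ᵁ U.1) Γ(Z', W') := ((i.appLE (a ⁻¹ᵁ U.1) W le_rfl) ≫ c.appLE W W' ec).hom.toAlgebra
  haveI : IsScalarTower Γ(X, a ⁻¹ᵁ U.1) Γ(Z, W) Γ(Z', W') := IsScalarTower.of_algebraMap_eq' rfl
  haveI : IsScalarTower Γ(X, a ⁻¹ᵁ U.1) Γ(X', a' ⁻¹ᵁ U'.1) Γ(Z', W') := IsScalarTower.of_algebraMap_eq' (by
    show ((i.appLE (a ⁻¹ᵁ U.1) W le_rfl) ≫ c.appLE W W' ec).hom =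
      (f.appLE (a ⁻¹ᵁ U.1) (a' ⁻¹ᵁ U'.1) e₁ ≫ i'.appLE (a' ⁻¹ᵁ U'.1) W' le_rfl).hom
    rw [Scheme.Hom.appLE_comp_appLE, Scheme.Hom.appLE_comp_appLE]; simp only [hX.w])
  haveI : Algebra.IsPushout Γ(Y, b ⁻¹ᵁ U.1) Γ(Y', b' ⁻¹ᵁ U'.1) Γ(Z, W) Γ(Z', W') :=
    CommRingCat.isPushout_iff_isPushout.mp
      (isPushout_appLE_of_isPullback hY (U.2.preimage b) (U'.2.preimage b') e₂ hWA eW hWA' eW' ec)
  haveI : Algebra.IsPushout Γ(X, a ⁻¹ᵁ U.1) Γ(X', a' ⁻¹ᵁ U'.1) Γ(Z, W) Γ(Z', W') :=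
    CommRingCat.isPushout_iff_isPushout.mp
      (isPushout_appLE_of_isPullback hX (U.2.preimage a) (U'.2.preimage a') e₁ hWA hW hWA' hW' ec)
  have hsq : EtMil.IsFibreSquare Γ(P, U) Γ(Y, b ⁻¹ᵁ U.1) Γ(X, a ⁻¹ᵁ U.1) Γ(Z, W) := isFibreSquare_of_isFibreProd hF2
  have hsq' : EtMil.IsFibreSquare Γ(P', U') Γ(Y', b' ⁻¹ᵁ U'.1) Γ(X', a' ⁻¹ᵁ U'.1) Γ(Z', W') :=
    isFibreSquare_of_isFibreProd hF2'
  obtain ⟨h₁, h₂⟩ := Milnor.isPushout_legs (B' := Γ(P, U)) (B := Γ(Y, b ⁻¹ᵁ U.1)) (A' := Γ(X, a ⁻¹ᵁ U.1)) (A := Γ(Z, W))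
    (D' := Γ(P', U')) (D := Γ(Y', b' ⁻¹ᵁ U'.1)) (C' := Γ(X', a' ⁻¹ᵁ U'.1)) (C := Γ(Z', W')) hsq hsq'
  let eB := Algebra.IsPushout.equiv Γ(P, U) Γ(Y, b ⁻¹ᵁ U.1) Γ(P', U') Γ(Y', b' ⁻¹ᵁ U'.1)
  let eA := Algebra.IsPushout.equiv Γ(P, U) Γ(X, a ⁻¹ᵁ U.1) Γ(P', U') Γ(X', a' ⁻¹ᵁ U'.1)
  refine ⟨CommRingCat.isPushout_iff_isPushout.mpr h₁, CommRingCat.isPushout_iff_isPushout.mpr h₂, fun hf hg => ?_,
    fun hf hg => ?_⟩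
  · haveI := Algebra.FiniteType.equiv (hg : Algebra.FiniteType Γ(Y, b ⁻¹ᵁ U.1) Γ(Y', b' ⁻¹ᵁ U'.1)) eB.symm
    haveI := Algebra.FiniteType.equiv (hf : Algebra.FiniteType Γ(X, a ⁻¹ᵁ U.1) Γ(X', a' ⁻¹ᵁ U'.1)) eA.symm
    exact Milnor.finiteType_of_pair hsq Γ(P', U')
  · haveI : Algebra.QuasiFinite Γ(Y, b ⁻¹ᵁ U.1) Γ(Y', b' ⁻¹ᵁ U'.1) := hg
    haveI : Algebra.QuasiFinite Γ(X, a ⁻¹ᵁ U.1) Γ(X', a' ⁻¹ᵁ U'.1) := hf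
    haveI := Algebra.QuasiFinite.of_surjective_algHom eB.symm.toAlgHom eB.symm.surjective
    haveI := Algebra.QuasiFinite.of_surjective_algHom eA.symm.toAlgHom eA.symm.surjective
    exact Milnor.quasiFinite_of_pair hsq Γ(P', U')

end chart

/-- A commutative square is cartesian if it is so over a cover of the corner. -/
theorem isPullback_of_cover {X Y X' Y' : Scheme.{u}} {t : X' ⟶ X} {l : X' ⟶ Y'} {r : X ⟶ Y} {d : Y' ⟶ Y}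
    (w : t ≫ r = l ≫ d) {ι : Type u} (K U : ι → Scheme.{u}) (φ : ∀ k, K k ⟶ Y') [∀ k, IsOpenImmersion (φ k)]
    (hcov : ∀ x, ∃ k, x ∈ Set.range (φ k)) (e : ∀ k, U k ⟶ X') (γ : ∀ k, U k ⟶ K k)
    (h₁ : ∀ k, IsPullback (e k) (γ k) l (φ k)) (h₂ : ∀ k, IsPullback (e k ≫ t) (γ k) r (φ k ≫ d)) :
    IsPullback t l r d := by
  let θ : X' ⟶ pullback r d := pullback.lift t l w
  have hψ : ∀ k, (e k ≫ t) ≫ r = (γ k ≫ φ k) ≫ d := fun k => by rw [(h₂ k).w, Category.assoc]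
  let ψ : ∀ k, U k ⟶ pullback r d := fun k => pullback.lift (e k ≫ t) (γ k ≫ φ k) (hψ k)
  have hψ' : ∀ k, IsPullback (ψ k) (γ k) (pullback.snd r d) (φ k) := fun k => by
    refine IsPullback.of_right ?_ (pullback.lift_snd _ _ _) (IsPullback.of_hasPullback r d)
    rw [pullback.lift_fst]
    exact h₂ k
  haveI : ∀ k, IsOpenImmersion (ψ k) := fun k => MorphismProperty.of_isPullback (hψ' k).flip inferInstance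
  have hθ : ∀ k, IsPullback (e k) (𝟙 (U k)) θ (ψ k) := fun k => by
    refine IsPullback.of_bot ?_ ?_ (hψ' k)
    · rw [Category.id_comp, pullback.lift_snd]; exact h₁ k
    · rw [Category.id_comp]
      refine pullback.hom_ext ?_ ?_
      · rw [Category.assoc, pullback.lift_fst, pullback.lift_fst]
      · rw [Category.assoc, pullback.lift_snd, pullback.lift_snd, (h₁ k).w]
  have hcovψ : ∀ x, ∃ k, x ∈ Set.range (ψ k) := fun x => by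
    obtain ⟨k, y, hy⟩ := hcov (pullback.snd r d x)
    refine ⟨k, ?_⟩
    obtain ⟨z, hz, -⟩ := Scheme.exists_preimage_of_isPullback (hψ' k) x y hy.symm
    exact ⟨z, hz⟩
  haveI : IsIso θ := of_chart (Q := MorphismProperty.isomorphisms Scheme.{u}) θ U U ψ hcovψ e (fun k => 𝟙 _) hθ
    (fun k => MorphismProperty.isomorphisms.infer_property _)
  exact IsPullback.of_iso_pullback ⟨w⟩ (asIso θ) (pullback.lift_fst _ _ _) (pullback.lift_snd _ _ _)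

end RingPO
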