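import Mathlib
import Groth.Agent.RingPO.Affine

universe u
set_option autoImplicit false
open AlgebraicGeometry CategoryTheory CategoryTheory.Limits

namespace RingPO

theorem isFibreProd_of_isPullback {A A' B C : Type u} [CommRing A] [CommRing A'] [CommRing B] [CommRing C]
    {p : A' →+* A} {q : B →+* A} {α : C →+* A'} {β : C →+* B} (hp : Function.Surjective p)
    (h : IsPullback (CommRingCat.ofHom α) (CommRingCat.ofHom β) (CommRingCat.ofHom p) (CommRingCat.ofHom q)) :
    IsFibreProd p q α β := by
  have h' := h.map (forget CommRingCat.{u})
  refine ⟨hp, fun z => RingHom.congr_fun (congrArg CommRingCat.Hom.hom h.w) z, fun z z' ha hb => ?_, fun b a hab => ?_⟩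
  · exact Types.ext_of_isPullback h' ha hb
  · exact Types.exists_of_isPullback h' a b hab

end RingPO
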