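import Mathlib
import Groth.Agent.RingPO.ChartPushout
import Groth.Agent.RingPO.FibreAffine
import Groth.Agent.RingPO.Sep

/-!
# Gluing finite étale covers along a pushout
-/

universe u
set_option autoImplicit false
open AlgebraicGeometry CategoryTheory CategoryTheory.Limits TopologicalSpace Opposite TensorProduct

namespace RingPO

variable {X Y Z P X' Y' Z' P' : Scheme.{u}} {i : Z ⟶ X} [IsClosedImmersion i] {j : Z ⟶ Y}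
  {a : X ⟶ P} {b : Y ⟶ P}
  {i' : Z' ⟶ X'} [IsClosedImmersion i'] {j' : Z' ⟶ Y'} {a' : X' ⟶ P'} {b' : Y' ⟶ P'}
  {f : X' ⟶ X} {g : Y' ⟶ Y} {c : Z' ⟶ Z} {h : P' ⟶ P}

theorem finite_appLE {V S : Scheme.{u}} (f : V ⟶ S) [IsFinite f] {U : S.Opens} (hU : IsAffineOpen U) (U' : V.Opens)
    (e : U' = f ⁻¹ᵁ U) (e' : U' ≤ f ⁻¹ᵁ U) : (f.appLE U U' e').hom.Finite := by
  subst e
  rw [← Scheme.Hom.app_eq_appLE]
  exact f.finite_app U hU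

/-- The corner morphism of pushouts is affine if both pieces are. -/
theorem isAffineHom_corner [IsAffineHom a] [IsAffineHom b] [IsAffineHom f] [IsAffineHom g]
    (hP' : IsPushout i' j' a' b') (hcP' : ∀ y : Y', ∃ k : Chart i' j', y ∈ k.V)
    (ha : a' ≫ h = f ≫ a) (hb : b' ≫ h = g ≫ b) : IsAffineHom h := by
  refine ⟨fun U hU => ?_⟩
  obtain ⟨φ, hφ, -, h1, h2, h3, h4⟩ := exists_fibreProd_chart hP' hcP'
  have eA : a' ⁻¹ᵁ h ⁻¹ᵁ U = f ⁻¹ᵁ a ⁻¹ᵁ U := by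
    rw [← Scheme.Hom.comp_preimage, ha, Scheme.Hom.comp_preimage]
  have eB : b' ⁻¹ᵁ h ⁻¹ᵁ U = g ⁻¹ᵁ b ⁻¹ᵁ U := by
    rw [← Scheme.Hom.comp_preimage, hb, Scheme.Hom.comp_preimage]
  let k : Chart i' j' := ⟨a' ⁻¹ᵁ h ⁻¹ᵁ U, b' ⁻¹ᵁ h ⁻¹ᵁ U, by rw [eA]; exact (hU.preimage a).preimage f,
    by rw [eB]; exact (hU.preimage b).preimage g,
    by rw [← Scheme.Hom.comp_preimage, hP'.w, Scheme.Hom.comp_preimage]⟩
  haveI := hφ k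
  have hr : (φ k).opensRange = h ⁻¹ᵁ U := by
    refine Opens.ext (Set.ext fun x => ?_)
    rcases exists_preimage_point hP' hcP' x with ⟨y, rfl⟩ | ⟨y, rfl⟩
    · exact Set.ext_iff.mp (h3 k) y
    · exact Set.ext_iff.mp (h4 k) y
  rw [← hr]
  exact isAffineOpen_opensRange _

/-- A morphism of pushouts of cartesian squares whose pieces are finite étale is finite étale, and cartesian. -/
theorem fet_corner [IsAffineHom j] [IsAffineHom j'] [IsAffineHom a] [IsAffineHom b] [IsAffineHom a'] [IsAffineHom b']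
    [IsFinite f] [Etale f] [IsFinite g] [Etale g]
    (hP : IsPushout i j a b) (hcP : ∀ y : Y, ∃ k : Chart i j, y ∈ k.V) (hP' : IsPushout i' j' a' b')
    (hcP' : ∀ y : Y', ∃ k : Chart i' j', y ∈ k.V) (hX : IsPullback i' c f i) (hY : IsPullback j' c g j)
    (ha : a' ≫ h = f ≫ a) (hb : b' ≫ h = g ≫ b) :
    IsFinite h ∧ Etale h ∧ IsPullback a' f h a ∧ IsPullback b' g h b := by
  haveI := isAffineHom_corner hP' hcP' ha hb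
  have h₁ : ∀ (U : P.Opens) (U' : P'.Opens), U' ≤ h ⁻¹ᵁ U → a' ⁻¹ᵁ U' ≤ f ⁻¹ᵁ a ⁻¹ᵁ U := fun U U' e => by
    rw [← Scheme.Hom.comp_preimage, ← ha, Scheme.Hom.comp_preimage]; exact a'.preimage_mono e
  have h₂ : ∀ (U : P.Opens) (U' : P'.Opens), U' ≤ h ⁻¹ᵁ U → b' ⁻¹ᵁ U' ≤ g ⁻¹ᵁ b ⁻¹ᵁ U := fun U U' e => by
    rw [← Scheme.Hom.comp_preimage, ← hb, Scheme.Hom.comp_preimage]; exact b'.preimage_mono e
  have main : ∀ U : P.affineOpens, (h.appLE U (h ⁻¹ᵁ U.1) le_rfl).hom.Finite ∧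
      (h.appLE U (h ⁻¹ᵁ U.1) le_rfl).hom.Etale := by
    intro U
    let U' : P'.affineOpens := ⟨h ⁻¹ᵁ U.1, U.2.preimage h⟩
    have e₁ := h₁ U.1 U'.1 le_rfl
    have e₂ := h₂ U.1 U'.1 le_rfl
    obtain ⟨hB, hA, -, -⟩ := chart_spec hP hcP hP' hcP' hX hY ha hb U U' le_rfl e₁ e₂
    have eA : a' ⁻¹ᵁ U'.1 = f ⁻¹ᵁ a ⁻¹ᵁ U.1 := by
      show a' ⁻¹ᵁ h ⁻¹ᵁ U.1 = _
      rw [← Scheme.Hom.comp_preimage, ha, Scheme.Hom.comp_preimage]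
    have eB : b' ⁻¹ᵁ U'.1 = g ⁻¹ᵁ b ⁻¹ᵁ U.1 := by
      show b' ⁻¹ᵁ h ⁻¹ᵁ U.1 = _
      rw [← Scheme.Hom.comp_preimage, hb, Scheme.Hom.comp_preimage]
    have hff : (f.appLE (a ⁻¹ᵁ U.1) (a' ⁻¹ᵁ U'.1) e₁).hom.Finite :=
      finite_appLE f (U.2.preimage a) _ eA e₁
    have hgf : (g.appLE (b ⁻¹ᵁ U.1) (b' ⁻¹ᵁ U'.1) e₂).hom.Finite :=
      finite_appLE g (U.2.preimage b) _ eB e₂
    have hfe : (f.appLE (a ⁻¹ᵁ U.1) (a' ⁻¹ᵁ U'.1) e₁).hom.Etale :=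
      HasRingHomProperty.appLE @Etale _ inferInstance ⟨_, U.2.preimage a⟩ ⟨_, U'.2.preimage a'⟩ e₁
    have hge : (g.appLE (b ⁻¹ᵁ U.1) (b' ⁻¹ᵁ U'.1) e₂).hom.Etale :=
      HasRingHomProperty.appLE @Etale _ inferInstance ⟨_, U.2.preimage b⟩ ⟨_, U'.2.preimage b'⟩ e₂
    have hF := isFibreProd_of_affineOpen hP hcP U.2
    set W : Z.Opens := i ⁻¹ᵁ a ⁻¹ᵁ U.1 with hW
    have eW : W = j ⁻¹ᵁ b ⁻¹ᵁ U.1 := by rw [hW, ← Scheme.Hom.comp_preimage, hP.w, Scheme.Hom.comp_preimage]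
    have hF2 : IsFibreProd (i.appLE (a ⁻¹ᵁ U.1) W le_rfl).hom (j.appLE (b ⁻¹ᵁ U.1) W eW.le).hom
        (a.appLE U (a ⁻¹ᵁ U.1) le_rfl).hom (b.appLE U (b ⁻¹ᵁ U.1) le_rfl).hom := hF
    letI : Algebra Γ(P, U) Γ(Y, b ⁻¹ᵁ U.1) := (b.appLE U (b ⁻¹ᵁ U.1) le_rfl).hom.toAlgebra
    letI : Algebra Γ(P, U) Γ(X, a ⁻¹ᵁ U.1) := (a.appLE U (a ⁻¹ᵁ U.1) le_rfl).hom.toAlgebra
    letI : Algebra Γ(Y, b ⁻¹ᵁ U.1) Γ(Z, W) := (j.appLE (b ⁻¹ᵁ U.1) W eW.le).hom.toAlgebra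
    letI : Algebra Γ(X, a ⁻¹ᵁ U.1) Γ(Z, W) := (i.appLE (a ⁻¹ᵁ U.1) W le_rfl).hom.toAlgebra
    letI : Algebra Γ(P, U) Γ(Z, W) :=
      ((b.appLE U (b ⁻¹ᵁ U.1) le_rfl) ≫ (j.appLE (b ⁻¹ᵁ U.1) W eW.le)).hom.toAlgebra
    haveI : IsScalarTower Γ(P, U) Γ(Y, b ⁻¹ᵁ U.1) Γ(Z, W) := IsScalarTower.of_algebraMap_eq' rfl
    haveI : IsScalarTower Γ(P, U) Γ(X, a ⁻¹ᵁ U.1) Γ(Z, W) :=
      IsScalarTower.of_algebraMap_eq' (RingHom.ext fun z => (hF2.comm z).symm)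
    have hsq : EtMil.IsFibreSquare Γ(P, U) Γ(Y, b ⁻¹ᵁ U.1) Γ(X, a ⁻¹ᵁ U.1) Γ(Z, W) := isFibreSquare_of_isFibreProd hF2
    letI : Algebra Γ(P, U) Γ(P', U') := (h.appLE U U' le_rfl).hom.toAlgebra
    letI : Algebra Γ(Y, b ⁻¹ᵁ U.1) Γ(Y', b' ⁻¹ᵁ U'.1) := (g.appLE (b ⁻¹ᵁ U.1) (b' ⁻¹ᵁ U'.1) e₂).hom.toAlgebra
    letI : Algebra Γ(X, a ⁻¹ᵁ U.1) Γ(X', a' ⁻¹ᵁ U'.1) := (f.appLE (a ⁻¹ᵁ U.1) (a' ⁻¹ᵁ U'.1) e₁).hom.toAlgebra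
    letI : Algebra Γ(P', U') Γ(Y', b' ⁻¹ᵁ U'.1) := (b'.appLE U' (b' ⁻¹ᵁ U'.1) le_rfl).hom.toAlgebra
    letI : Algebra Γ(P', U') Γ(X', a' ⁻¹ᵁ U'.1) := (a'.appLE U' (a' ⁻¹ᵁ U'.1) le_rfl).hom.toAlgebra
    letI : Algebra Γ(P, U) Γ(Y', b' ⁻¹ᵁ U'.1) :=
      ((b.appLE U (b ⁻¹ᵁ U.1) le_rfl) ≫ (g.appLE (b ⁻¹ᵁ U.1) (b' ⁻¹ᵁ U'.1) e₂)).hom.toAlgebra
    haveI : IsScalarTower Γ(P, U) Γ(Y, b ⁻¹ᵁ U.1) Γ(Y', b' ⁻¹ᵁ U'.1) := IsScalarTower.of_algebraMap_eq' rfl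
    haveI : IsScalarTower Γ(P, U) Γ(P', U') Γ(Y', b' ⁻¹ᵁ U'.1) := IsScalarTower.of_algebraMap_eq' (by
      show ((b.appLE U (b ⁻¹ᵁ U.1) le_rfl) ≫ (g.appLE (b ⁻¹ᵁ U.1) (b' ⁻¹ᵁ U'.1) e₂)).hom =
        (h.appLE U U' le_rfl ≫ b'.appLE U' (b' ⁻¹ᵁ U'.1) le_rfl).hom
      rw [Scheme.Hom.appLE_comp_appLE, Scheme.Hom.appLE_comp_appLE]; simp only [hb])
    letI : Algebra Γ(P, U) Γ(X', a' ⁻¹ᵁ U'.1) :=
      ((a.appLE U (a ⁻¹ᵁ U.1) le_rfl) ≫ (f.appLE (a ⁻¹ᵁ U.1) (a' ⁻¹ᵁ U'.1) e₁)).hom.toAlgebra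
    haveI : IsScalarTower Γ(P, U) Γ(X, a ⁻¹ᵁ U.1) Γ(X', a' ⁻¹ᵁ U'.1) := IsScalarTower.of_algebraMap_eq' rfl
    haveI : IsScalarTower Γ(P, U) Γ(P', U') Γ(X', a' ⁻¹ᵁ U'.1) := IsScalarTower.of_algebraMap_eq' (by
      show ((a.appLE U (a ⁻¹ᵁ U.1) le_rfl) ≫ (f.appLE (a ⁻¹ᵁ U.1) (a' ⁻¹ᵁ U'.1) e₁)).hom =
        (h.appLE U U' le_rfl ≫ a'.appLE U' (a' ⁻¹ᵁ U'.1) le_rfl).hom
      rw [Scheme.Hom.appLE_comp_appLE, Scheme.Hom.appLE_comp_appLE]; simp only [ha])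
    haveI : Algebra.IsPushout Γ(P, U) Γ(Y, b ⁻¹ᵁ U.1) Γ(P', U') Γ(Y', b' ⁻¹ᵁ U'.1) := CommRingCat.isPushout_iff_isPushout.mp hB
    haveI : Algebra.IsPushout Γ(P, U) Γ(X, a ⁻¹ᵁ U.1) Γ(P', U') Γ(X', a' ⁻¹ᵁ U'.1) := CommRingCat.isPushout_iff_isPushout.mp hA
    let eB' := Algebra.IsPushout.equiv Γ(P, U) Γ(Y, b ⁻¹ᵁ U.1) Γ(P', U') Γ(Y', b' ⁻¹ᵁ U'.1)
    let eA' := Algebra.IsPushout.equiv Γ(P, U) Γ(X, a ⁻¹ᵁ U.1) Γ(P', U') Γ(X', a' ⁻¹ᵁ U'.1)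
    haveI : Module.Finite Γ(Y, b ⁻¹ᵁ U.1) Γ(Y', b' ⁻¹ᵁ U'.1) := hgf
    haveI : Module.Finite Γ(X, a ⁻¹ᵁ U.1) Γ(X', a' ⁻¹ᵁ U'.1) := hff
    haveI : Algebra.Etale Γ(Y, b ⁻¹ᵁ U.1) Γ(Y', b' ⁻¹ᵁ U'.1) := hge
    haveI : Algebra.Etale Γ(X, a ⁻¹ᵁ U.1) Γ(X', a' ⁻¹ᵁ U'.1) := hfe
    haveI := Module.Finite.equiv eB'.symm.toLinearEquiv
    haveI := Module.Finite.equiv eA'.symm.toLinearEquiv
    haveI := Algebra.Etale.of_equiv eB'.symm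
    haveI := Algebra.Etale.of_equiv eA'.symm
    exact ⟨Groth.Agent.EtMil7.finite_of_pair hsq Γ(P', U'), Milnor.etale_of_pair hsq Γ(P', U')⟩
  refine ⟨?_, ?_, ?_, ?_⟩
  · rw [isFinite_iff]
    refine ⟨inferInstance, fun U hU => ?_⟩
    rw [Scheme.Hom.app_eq_appLE]
    exact (main ⟨U, hU⟩).1
  · refine (HasRingHomProperty.iff_appLE (P := @Etale) (f := h)).mpr fun U V e => ?_
    have key : (h.appLE U.1 V.1 e).hom =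
        (P'.presheaf.map (homOfLE e).op).hom.comp (h.appLE U.1 (h ⁻¹ᵁ U.1) le_rfl).hom := by
      rw [← CommRingCat.hom_comp, Scheme.Hom.appLE_map]
    haveI hV : IsOpenImmersion (Spec.map (P'.presheaf.map (homOfLE e).op)) :=
      Chart.isOpenImmersion_res V.2 (U.2.preimage h) e
    have hE : (P'.presheaf.map (homOfLE e).op).hom.Etale := by
      have : Etale (Spec.map (P'.presheaf.map (homOfLE e).op)) := inferInstance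
      rwa [HasRingHomProperty.Spec_iff (P := @Etale)] at this
    rw [key]
    exact RingHom.Etale.stableUnderComposition _ _ (main U).2 hE
  · refine isPullback_of_cover ha (fun U : P.affineOpens => Spec Γ(X, a ⁻¹ᵁ U.1))
      (fun U => Spec Γ(X', a' ⁻¹ᵁ h ⁻¹ᵁ U.1)) (fun U => (U.2.preimage a).fromSpec) (fun x => ?_)
      (fun U => ((U.2.preimage h).preimage a').fromSpec)
      (fun U => Spec.map (f.appLE (a ⁻¹ᵁ U.1) (a' ⁻¹ᵁ h ⁻¹ᵁ U.1) (h₁ _ _ le_rfl))) (fun U => ?_) (fun U => ?_)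
    · obtain ⟨U, hU, hxU, -⟩ := exists_isAffineOpen_mem_and_subset (x := a x) (U := (⊤ : P.Opens)) (by simp)
      exact ⟨⟨U, hU⟩, (hU.preimage a).range_fromSpec.ge hxU⟩
    · exact isPullback_fromSpec' f (U.2.preimage a) _ (by rw [← Scheme.Hom.comp_preimage, ha, Scheme.Hom.comp_preimage])
    · have hA := (chart_spec hP hcP hP' hcP' hX hY ha hb U ⟨_, U.2.preimage h⟩ le_rfl (h₁ _ _ le_rfl) (h₂ _ _ le_rfl)).2.1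
      have h3 := (isPullback_SpecMap_of_isPushout _ _ _ _ hA).flip.paste_horiz (isPullback_fromSpec' h U.2 (U.2.preimage h) rfl)
      rw [IsAffineOpen.SpecMap_appLE_fromSpec (hV := (U.2.preimage h).preimage a'),
        IsAffineOpen.SpecMap_appLE_fromSpec (hV := U.2.preimage a)] at h3
      exact h3
  · refine isPullback_of_cover hb (fun U : P.affineOpens => Spec Γ(Y, b ⁻¹ᵁ U.1))
      (fun U => Spec Γ(Y', b' ⁻¹ᵁ h ⁻¹ᵁ U.1)) (fun U => (U.2.preimage b).fromSpec) (fun x => ?_)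
      (fun U => ((U.2.preimage h).preimage b').fromSpec)
      (fun U => Spec.map (g.appLE (b ⁻¹ᵁ U.1) (b' ⁻¹ᵁ h ⁻¹ᵁ U.1) (h₂ _ _ le_rfl))) (fun U => ?_) (fun U => ?_)
    · obtain ⟨U, hU, hxU, -⟩ := exists_isAffineOpen_mem_and_subset (x := b x) (U := (⊤ : P.Opens)) (by simp)
      exact ⟨⟨U, hU⟩, (hU.preimage b).range_fromSpec.ge hxU⟩
    · exact isPullback_fromSpec' g (U.2.preimage b) _ (by rw [← Scheme.Hom.comp_preimage, hb, Scheme.Hom.comp_preimage])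
    · have hB := (chart_spec hP hcP hP' hcP' hX hY ha hb U ⟨_, U.2.preimage h⟩ le_rfl (h₁ _ _ le_rfl) (h₂ _ _ le_rfl)).1
      have h3 := (isPullback_SpecMap_of_isPushout _ _ _ _ hB).flip.paste_horiz (isPullback_fromSpec' h U.2 (U.2.preimage h) rfl)
      rw [IsAffineOpen.SpecMap_appLE_fromSpec (hV := (U.2.preimage h).preimage b'),
        IsAffineOpen.SpecMap_appLE_fromSpec (hV := U.2.preimage b)] at h3
      exact h3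

/-- Finite étale covers of the pieces which agree on `Z` glue to one of the pushout. -/
theorem exists_fet_glue {Z X Y W : Scheme.{u}} (i : Z ⟶ X) [IsClosedImmersion i] (j : Z ⟶ Y) [IsIntegralHom j]
    (hj : ∀ y : Y, ∃ U : X.Opens, IsAffineOpen U ∧ j ⁻¹' {y} ⊆ (i ⁻¹ᵁ U : Set Z))
    (a : X ⟶ W) (b : Y ⟶ W) (hpo : IsPushout i j a b)
    {X' Y' Z' : Scheme.{u}} {i' : Z' ⟶ X'} {j' : Z' ⟶ Y'} {f : X' ⟶ X} {g : Y' ⟶ Y} {c : Z' ⟶ Z}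
    [IsFinite f] [Etale f] [IsFinite g] [Etale g]
    (hX : IsPullback i' c f i) (hY : IsPullback j' c g j) :
    ∃ (P' : Scheme.{u}) (h : P' ⟶ W) (a' : X' ⟶ P') (b' : Y' ⟶ P'),
      IsFinite h ∧ Etale h ∧ IsPullback a' f h a ∧ IsPullback b' g h b := by
  haveI : IsClosedImmersion i' := MorphismProperty.of_isPullback hX.flip ‹_›
  haveI : IsIntegralHom j' := MorphismProperty.of_isPullback hY.flip ‹_›
  have hc' : ∀ y : Y', ∃ k : Chart i' j', y ∈ k.V :=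
    chart_of_integral fun y' => exists_affine_fibre hj hX.w.symm hY.w.symm y'
  have hc : ∀ y : Y, ∃ k : Chart i j, y ∈ k.V := chart_of_integral hj
  haveI : IsClosedImmersion b := isClosedImmersion_inr hpo hc
  haveI : IsAffineHom a := isAffineHom_inl hpo hc
  have hP' := isPushout_glued hc'
  haveI : IsClosedImmersion (inY hc') := isClosedImmersion_inr hP' hc'
  haveI : IsAffineHom (inX hc') := isAffineHom_inl hP' hc'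
  have w : i' ≫ f ≫ a = j' ≫ g ≫ b := by rw [reassoc_of% hX.w, hpo.w, reassoc_of% hY.w]
  obtain ⟨h1, h2, h3, h4⟩ := fet_corner (h := hP'.desc (f ≫ a) (g ≫ b) w) hpo hc hP' hc' hX hY
    (hP'.inl_desc _ _ w) (hP'.inr_desc _ _ w)
  exact ⟨_, _, _, _, h1, h2, h3, h4⟩

end RingPO
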