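import Mathlib
import Groth.Agent.RingPO.Props
import Groth.Agent.AffineNhd.Union

universe u
set_option autoImplicit false
open AlgebraicGeometry CategoryTheory CategoryTheory.Limits TopologicalSpace Opposite

namespace RingPO

/-- Lift a basic open of a closed subscheme to a basic open containing given finitely many points. -/
theorem exists_basicOpen_lift {X Y : Scheme.{u}} (θ : Y ⟶ X) [IsClosedImmersion θ] {U : X.Opens}
    (hU : IsAffineOpen U) (g : Γ(Y, θ ⁻¹ᵁ U)) (G : Finset X) (hGU : ∀ x ∈ G, x ∈ U)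
    (hG : ∀ z, θ z ∈ G → z ∈ Y.basicOpen g) :
    ∃ f : Γ(X, U), θ ⁻¹ᵁ X.basicOpen f = Y.basicOpen g ∧ ∀ x ∈ G, x ∈ X.basicOpen f := by
  classical
  obtain ⟨f₀, hf₀⟩ := θ.app_surjective U hU g
  let π : Γ(X, U) →+* Γ(Y, θ ⁻¹ᵁ U) := (θ.appLE U (θ ⁻¹ᵁ U) le_rfl).hom
  have hπ : ∀ f, π f = θ.app U f := fun f => by
    show θ.appLE U (θ ⁻¹ᵁ U) le_rfl f = _
    rw [← Scheme.Hom.app_eq_appLE]
  have hπs : Function.Surjective π := fun y => by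
    obtain ⟨x, hx⟩ := θ.app_surjective U hU y
    exact ⟨x, (hπ x).trans hx⟩
  let S : Finset (PrimeSpectrum Γ(X, U)) := G.attach.image fun x => hU.primeIdealOf ⟨x.1, hGU x.1 x.2⟩
  obtain ⟨a, ha, haS⟩ := Groth.Agent.AffineNhd.exists_add_notMem S f₀ (RingHom.ker π) fun p hp hf hle => by
    obtain ⟨x, -, rfl⟩ := Finset.mem_image.1 hp
    obtain ⟨y, hy⟩ := (range_comap_of_surjective _ π hπs).ge hle
    have h1 : θ ((hU.preimage θ).fromSpec y) = x.1 := by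
      have := congrArg hU.fromSpec hy
      rw [hU.fromSpec_primeIdealOf] at this
      rw [← this]
      show _ = (Spec.map (θ.appLE U (θ ⁻¹ᵁ U) le_rfl) ≫ hU.fromSpec) y
      rw [hU.SpecMap_appLE_fromSpec θ (hU.preimage θ)]; rfl
    have h2 : x.1 ∈ X.basicOpen f₀ := by
      have := hG _ (h1 ▸ x.2)
      rw [← hf₀, ← Scheme.preimage_basicOpen] at this
      exact h1 ▸ this
    have h3 : hU.primeIdealOf ⟨x.1, hGU x.1 x.2⟩ ∈ hU.fromSpec ⁻¹ᵁ X.basicOpen f₀ := by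
      show hU.fromSpec _ ∈ X.basicOpen f₀
      rw [hU.fromSpec_primeIdealOf]; exact h2
    rw [hU.fromSpec_preimage_basicOpen] at h3
    exact h3 hf
  refine ⟨f₀ + a, ?_, fun x hx => ?_⟩
  · rw [Scheme.preimage_basicOpen, map_add, ← hπ a, RingHom.mem_ker.mp ha, add_zero, hf₀]
  · have h := haS _ (Finset.mem_image.2 ⟨⟨x, hx⟩, Finset.mem_attach _ _, rfl⟩)
    have h3 : hU.primeIdealOf ⟨x, hGU x hx⟩ ∈ hU.fromSpec ⁻¹ᵁ X.basicOpen (f₀ + a) := by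
      rw [hU.fromSpec_preimage_basicOpen]; exact h
    have h4 : hU.fromSpec (hU.primeIdealOf ⟨x, hGU x hx⟩) ∈ X.basicOpen (f₀ + a) := h3
    rwa [hU.fromSpec_primeIdealOf] at h4

/-- Two affine opens through given finite sets refine to compatible charts. -/
theorem exists_chart_finset {X₁ X₂ Y : Scheme.{u}} (θ₁ : Y ⟶ X₁) (θ₂ : Y ⟶ X₂) [IsClosedImmersion θ₁]
    [IsClosedImmersion θ₂] {U₁ : X₁.Opens} {U₂ : X₂.Opens} (hU₁ : IsAffineOpen U₁) (hU₂ : IsAffineOpen U₂)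
    (G₁ : Finset X₁) (G₂ : Finset X₂) (h₁ : ∀ x ∈ G₁, x ∈ U₁) (h₂ : ∀ x ∈ G₂, x ∈ U₂)
    (hG : ∀ z, θ₁ z ∈ G₁ ↔ θ₂ z ∈ G₂) :
    ∃ c : Chart θ₁ θ₂, (∀ x ∈ G₁, x ∈ c.U) ∧ (∀ x ∈ G₂, x ∈ c.V) := by
  classical
  let F : Finset Y := G₁.preimage θ₁ θ₁.isClosedEmbedding.injective.injOn
  have hF : ∀ z ∈ F, z ∈ θ₁ ⁻¹ᵁ U₁ ∧ z ∈ θ₂ ⁻¹ᵁ U₂ := fun z hz =>
    ⟨h₁ _ (Finset.mem_preimage.1 hz), h₂ _ ((hG z).mp (Finset.mem_preimage.1 hz))⟩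
  obtain ⟨h, hhle, hhF⟩ := Groth.Agent.AffineNhd.exists_basicOpen_finset (hU₁.preimage θ₁) F
    (fun z hz => (hF z hz).1) (θ₂ ⁻¹ᵁ U₂) (fun z hz => (hF z hz).2)
  obtain ⟨k, hkle, hkF⟩ := Groth.Agent.AffineNhd.exists_basicOpen_finset (hU₂.preimage θ₂) F
    (fun z hz => (hF z hz).2) (Y.basicOpen h) hhF
  obtain ⟨g, hg⟩ := (hU₁.preimage θ₁).basicOpen_basicOpen_is_basicOpen h
    (Y.presheaf.map (homOfLE hhle).op k)
  rw [Scheme.basicOpen_res, inf_eq_right.mpr hkle] at hg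
  obtain ⟨f₁, hf₁, hf₁G⟩ := exists_basicOpen_lift θ₁ hU₁ g G₁ h₁ (fun z hz => by
    rw [hg]; exact hkF z (Finset.mem_preimage.2 hz))
  obtain ⟨f₂, hf₂, hf₂G⟩ := exists_basicOpen_lift θ₂ hU₂ k G₂ h₂ (fun z hz =>
    hkF z (Finset.mem_preimage.2 ((hG z).mpr hz)))
  exact ⟨⟨X₁.basicOpen f₁, X₂.basicOpen f₂, hU₁.basicOpen _, hU₂.basicOpen _, by rw [hf₁, hg, hf₂]⟩, hf₁G, hf₂G⟩

end RingPO
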